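import Cfsg.Agent.Lib.Characterizations.SuzType.Pair

/-!
# Groups of Suzuki sporadic type: exactly two classes of involutions
-/

set_option autoImplicit false
set_option linter.style.haveILetI false
set_option linter.unusedSectionVars false

namespace CfsgLib.Characterizations.SuzType

open CfsgLib.ThreeTransp.Extraspecial

variable {G : Type*} [Group G] [Finite G] {z : G} {Q : Subgroup G} {π : G → V}

theorem cz_mul {a b : G} (ha : a * z = z * a) (hb : b * z = z * b) : a * b * z = z * (a * b) := by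
  rw [mul_assoc, hb, ← mul_assoc, ha, mul_assoc]

theorem cz_inv {a : G} (ha : a * z = z * a) : a⁻¹ * z = z * a⁻¹ := (Commute.inv_left ha).eq

set_option maxRecDepth 100000 in
theorem point_facts : ∀ f : Fin 5, ∀ a : ZMod 2,
    P (pt f) + a • u0 ≠ 0 ∧ q (P (pt f) + a • u0) = 0 := by decide +kernel

set_option maxRecDepth 100000 in
theorem std_facts : Ev φ01 ∧ Ev m02 ∧ φ01 ≠ 0 ∧ qe φ01 = 1 ∧ dot φ01 φ01 = 0 ∧ dot m02 φ01 = 1 ∧
    dot φ01 m02 = 1 ∧ dot (pt 3) φ01 = 0 ∧ dot (pt 4) φ01 = 0 ∧ dot (pt 3) m02 = 0 ∧ dot (pt 4) m02 = 0 := by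
  decide +kernel

set_option maxRecDepth 100000 in
set_option synthInstance.maxSize 4096 in
set_option synthInstance.maxHeartbeats 400000 in
theorem tail_zero : ∀ φ ψ : W5, Ev φ → Ev ψ → φ 3 = 0 → φ 4 = 0 → ψ 3 = 0 → ψ 4 = 0 → φ 0 = ψ 0 → φ 1 = ψ 1 →
    φ = ψ := by decide +kernel

theorem co_of_over {v : V} (h : v = 0 ∨ v = u0) : co v = 0 ∧ v 5 = 0 := by
  rcases h with rfl | rfl
  · exact ⟨co_zero, rfl⟩
  · exact ⟨co_u0, rfl⟩

namespace Suz

variable (S : Suz z Q π)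

/-- `[V, c]` is totally singular. -/
def Tsing (c : G) : Prop := ∀ v, q (S.act c v + v) = 0

section

include S

theorem act_conj {k c : G} (hk : k * z = z * k) (hc : c * z = z * c) (v : V) :
    S.act (k * c * k⁻¹) v = S.act k (S.act c (S.act k⁻¹ v)) := by
  rw [S.act_mul (cz_mul hk hc) (cz_inv hk), S.act_mul hk hc]

theorem tsing_conj {k c : G} (hk : k * z = z * k) (hc : c * z = z * c) (h : Tsing S (k * c * k⁻¹)) :
    Tsing S c := by
  intro v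
  have h' := h (S.act k v)
  rw [S.act_conj hk hc, S.act_inv_act hk, ← (S.act_iso hk).add, (S.act_iso hk).quad] at h'
  exact h'

end

namespace Pair

variable {S} {u g : G} (p : S.Pair u g)
include p

/-- An involution of `C(z) ∖ Q` is conjugate to one acting as a Siegel element at `u0`. -/
theorem normalise {c : G} (hc : c * z = z * c) (hcQ : c ∉ Q) (hcc : c * c = 1) :
    ∃ k, k * z = z * k ∧ ∃ φ, Ev φ ∧ φ ≠ 0 ∧ ∀ v, S.act (k * c * k⁻¹) v = M 1 φ v := by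
  classical
  -- a fixed singular point
  obtain ⟨v₀, hv0, hqv, hfix⟩ : ∃ v, v ≠ 0 ∧ q v = 0 ∧ S.act c v = v := by
    let X := {v : V // v ≠ 0 ∧ q v = 0}
    have hi : ∀ v, S.act c (S.act c v) = v := fun v => by rw [← S.act_mul hc hc, hcc, S.act_one]
    let f : X → X := fun v => ⟨S.act c v, fun e => v.2.1 ((S.act_iso hc).inj (e.trans (S.act_iso hc).map_zero.symm)),
      ((S.act_iso hc).quad v).trans v.2.2⟩
    let σ : Equiv.Perm X := ⟨f, f, fun v => Subtype.ext (hi v), fun v => Subtype.ext (hi v)⟩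
    haveI : Fact (Nat.Prime 2) := ⟨Nat.prime_two⟩
    obtain ⟨v, hv⟩ := Equiv.Perm.exists_fixed_point_of_prime (p := 2) (n := 1) (σ := σ)
      (by rw [Fintype.card_subtype, zero_count]; norm_num)
      (Equiv.ext fun v => by rw [pow_one, pow_two]; exact Subtype.ext (hi v))
    exact ⟨v, v.2.1, v.2.2, congrArg Subtype.val hv⟩
  obtain ⟨k₀, hk₀, hk0v⟩ := S.transitive hv0 hqv (v := u0) (by decide) (by decide)
  set c₁ := k₀ * c * k₀⁻¹ with hc₁
  have hc₁z : c₁ * z = z * c₁ := cz_mul (cz_mul hk₀ hc) (cz_inv hk₀)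
  have hc₁u : S.act c₁ u0 = u0 := by
    rw [hc₁, S.act_conj hk₀ hc, ← hk0v, S.act_inv_act hk₀, hfix]
  obtain ⟨σ, φ, hφ, hf⟩ := exists_form (S.act_iso hc₁z) hc₁u
  have hne : ∀ k ψ, k * z = z * k → (∀ v, S.act (k * c * k⁻¹) v = M 1 ψ v) → ψ ≠ 0 := by
    intro k ψ hk h e
    subst e
    have hm := S.mem_of_act_id (cz_mul (cz_mul hk hc) (cz_inv hk)) fun v => by rw [h, evM_zero]
    have := S.norm _ (cz_inv hk) _ hm
    exact hcQ (by simpa [mul_assoc] using this)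
  by_cases hσ : σ = 1
  · subst hσ
    exact ⟨k₀, hk₀, φ, hφ, hne k₀ φ hk₀ hf, hf⟩
  have hsign := p.form_even hc₁z hφ hf
  have hc₁c₁ : c₁ * c₁ = 1 := by rw [hc₁, conj_mul, hcc]; group
  have h2 := form_comp (S.act_iso hc₁z) (S.act_iso hc₁z) hφ hφ hf hf
  obtain ⟨hσσ, hφσ⟩ := M_unique (τ := 1) (ev_add (ev_perm hφ _) hφ) ev_zero fun v => by
    rw [← h2, ← S.act_mul hc₁z hc₁z, hc₁c₁, evM_zero, S.act_one]
  have hφinv : ∀ i, φ (σ⁻¹ i) = φ i := fun i => CharTwo.add_eq_zero.1 (congrFun hφσ i)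
  obtain ⟨f, a, h⟩ := involution_point σ hsign hσσ φ hφ hφinv
  obtain ⟨hp1, hp2⟩ := h.resolve_left hσ
  set pp := P (pt f) + a • u0
  obtain ⟨k₁, hk₁, hk1⟩ := S.transitive (point_facts f a).1 (point_facts f a).2 (v := u0) (by decide) (by decide)
  have hk := cz_mul hk₁ hk₀
  have hc₂eq : k₁ * k₀ * c * (k₁ * k₀)⁻¹ = k₁ * c₁ * k₁⁻¹ := by rw [hc₁]; group
  set c₂ := k₁ * c₁ * k₁⁻¹ with hc₂
  have hc₂z : c₂ * z = z * c₂ := cz_mul (cz_mul hk₁ hc₁z) (cz_inv hk₁)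
  have hc₂u : S.act c₂ u0 = u0 := by
    rw [hc₂, S.act_conj hk₁ hc₁z, ← hk1, S.act_inv_act hk₁, hf, hp1]
  obtain ⟨σ', φ', hφ', hf'⟩ := exists_form (S.act_iso hc₂z) hc₂u
  have hσ' : σ' = 1 := by
    refine Equiv.ext fun i => pt_injective _ _ ?_
    obtain ⟨hco, -, h5⟩ := co_P _ (ev_pt i)
    have hB : B (S.act k₁⁻¹ (P (pt i))) pp = 0 := by
      rw [← (S.act_iso hk₁).polar, S.act_act_inv hk₁, hk1, B_u0, h5]
    have hm : S.act c₂ (P (pt i)) + P (pt i) = 0 ∨ S.act c₂ (P (pt i)) + P (pt i) = u0 := by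
      have e : S.act c₂ (P (pt i)) + P (pt i) = S.act k₁ (M σ φ (S.act k₁⁻¹ (P (pt i))) + S.act k₁⁻¹ (P (pt i))) := by
        rw [(S.act_iso hk₁).add, S.act_act_inv hk₁, hc₂, S.act_conj hk₁ hc₁z, hf]
      rw [e]
      rcases hp2 _ hB with e' | e' <;> rw [e']
      · exact Or.inl (S.act_iso hk₁).map_zero
      · exact Or.inr hk1
    have h0 := (co_of_over hm).1
    rw [co_add, hf', (co_M hφ' σ' _).1, hco, h5, zero_smul, add_zero, pt_perm] at h0
    calc pt (σ' i) = pt (σ' i) + (pt i + pt i) := by rw [add_self_W, add_zero]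
      _ = pt i := by rw [← add_assoc, h0, zero_add]
  subst hσ'
  refine ⟨k₁ * k₀, hk, φ', hφ', hne _ φ' hk ?_, ?_⟩ <;> rw [hc₂eq] <;> exact hf'

/-- Constraints on an involution `e x`. -/
theorem involution_eqs {e : G} (he : e ∈ S.sie g) {φ : W5} (hφ : Ev φ) (hφ0 : φ ≠ 0)
    (hf : ∀ v, S.act e v = M 1 φ v) {x : G} (hx : x ∈ Q) (hcc : e * x * (e * x) = 1) :
    π x 5 = 0 ∧ dot (co (π x)) φ = qe φ ∧ qe (co (π x)) = qe φ := by
  obtain ⟨hez, -⟩ := p.sie_comm he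
  have h : e * x * e⁻¹ * zp u (qe φ) * x = 1 := by
    rw [← p.sie_sq he hφ hf, ← hcc]; group
  have hex := S.norm e hez x hx
  have hπ := congrArg π h
  rw [S.π_mul _ (mul_mem hex (p.up_mem _)) _ hx, S.π_mul _ hex _ (p.up_mem _), ← S.act_π hez hx, hf, p.up_π,
    S.π_one, add_right_comm] at hπ
  have h5 : π x 5 = 0 := by
    have h' := congrArg co hπ
    rw [co_add, (M_one_co φ hφ (π x)).1, co_zero] at h'
    have hcu : co (qe φ • u0) = 0 := by rcases two_cases (qe φ) with e | e <;> simp [e, co_zero, co_u0]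
    rw [hcu, add_zero] at h'
    rcases two_cases (π x 5) with e | e
    · exact e
    · rw [e, one_smul] at h'; exact absurd h' hφ0
  rw [M_one_perp φ hφ _ h5] at hπ
  have hd : dot (co (π x)) φ = qe φ := by
    have := congrFun hπ 4
    exact CharTwo.add_eq_zero.1 (by simpa [u0] using this)
  refine ⟨h5, hd, ?_⟩
  rw [p.pair_formula he hφ hf hx h5, hd] at h
  have h' : zp z (q (π x) + qe φ) = zp z 0 := by
    rw [zp_zero, S.zp_add, ← S.sq_eq hx]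
    calc x * x * zp z (qe φ) = x * (x * zp z (qe φ)) := by group
      _ = x * (zp z (qe φ) * x) := by rw [S.zp_comm _ (S.mem_cz hx)]
      _ = x * (zp z (qe φ) * (zp u (qe φ) * zp u (qe φ))) * x := by
          rw [← p.up_add, CharTwo.add_self_eq_zero, zp_zero, mul_one, mul_assoc]
      _ = 1 := by rw [← h]; group
  rw [← (perp_facts _ h5).1]
  exact CharTwo.add_eq_zero.1 (S.zp_inj h')

/-- Conjugating the Siegel part by a lift of an even permutation. -/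
theorem move {e e' : G} (he : e ∈ S.sie g) (he' : e' ∈ S.sie g) {φ φ' : W5} (hφ : Ev φ)
    (hf : ∀ v, S.act e v = M 1 φ v) (hf' : ∀ v, S.act e' v = M 1 φ' v) {x : G} (hx : x ∈ Q) (h5 : π x 5 = 0)
    {τ : Equiv.Perm (Fin 5)} (hτ : Equiv.Perm.sign τ = 1) (hτφ : ∀ i, φ (τ⁻¹ i) = φ' i) :
    ∃ k x', k * z = z * k ∧ k * (e * x) * k⁻¹ = e' * x' ∧ x' ∈ Q ∧ π x' 5 = 0 ∧
      co (π x') = fun i => co (π x) (τ⁻¹ i) := by
  obtain ⟨c, hc, hcu, ψ, hψ, hcf⟩ := p.exists_lift hτ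
  obtain ⟨h1, h2⟩ := mem_sie.1 he
  have hce : c * e * c⁻¹ ∈ S.sie g := mem_sie.2 ⟨cz_mul (cz_mul hc h1) (cz_inv hc), p.norm_conj hcu h2⟩
  obtain ⟨χ, hχ, hχf⟩ := p.sie_form hce
  have hez := (p.sie_comm he).1
  have h'z := (p.sie_comm hce).1
  have a1 := form_comp (S.act_iso h'z) (S.act_iso hc) hχ hψ hχf hcf
  have a2 := form_comp (S.act_iso hc) (S.act_iso hez) hψ hφ hcf hf
  have h3 := (M_unique (ev_add (ev_perm hψ _) hχ) (ev_add (ev_perm hφ _) hψ) fun v => by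
    rw [← a1, ← a2, ← S.act_mul h'z hc, ← S.act_mul hc hez, inv_mul_cancel_right]).2
  have hχe : χ = φ' := by
    have h3' : ψ + χ = (fun i => φ (τ⁻¹ i)) + ψ := by simpa using h3
    rw [add_comm (fun i => φ (τ⁻¹ i))] at h3'
    rw [add_left_cancel h3']
    exact funext hτφ
  subst hχe
  set d := e'⁻¹ * (c * e * c⁻¹) with hd
  have hdsie : d ∈ S.sie g := mul_mem (inv_mem he') hce
  have hdQ : d ∈ Q := p.sie_mem_Q hdsie fun v => by
    rw [p.sie_mul_form (inv_mem he') hce hχ hχ (p.sie_inv_form he' hχ hf') hχf v, add_self_W]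
  have hcx : c * x * c⁻¹ ∈ Q := S.norm c hc x hx
  obtain ⟨hd0, hd5⟩ := co_of_over (p.meet hdQ (mem_sie.1 hdsie).2)
  refine ⟨c, d * (c * x * c⁻¹), hc, by rw [hd]; group, mul_mem hdQ hcx, ?_, ?_⟩ <;>
    rw [S.π_mul _ hdQ _ hcx, ← S.act_π hc hx, hcf]
  · rw [Pi.add_apply, hd5, (co_M hψ τ _).2, h5, add_zero]
  · rw [co_add, hd0, (co_M hψ τ _).1, h5, zero_smul, add_zero, zero_add]

/-- Conjugating by a preimage of `y0`. -/
theorem shift {e : G} (he : e ∈ S.sie g) {φ : W5} (hφ : Ev φ)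
    (hf : ∀ v, S.act e v = M 1 φ v) {x : G} (hx : x ∈ Q) (h5 : π x 5 = 0) :
    ∃ k x', k * z = z * k ∧ k * (e * x) * k⁻¹ = e * x' ∧ x' ∈ Q ∧ π x' 5 = 0 ∧
      co (π x') = co (π x) + φ := by
  obtain ⟨hez, -⟩ := p.sie_comm he
  obtain ⟨y, hy, hπy⟩ := S.π_surj y0
  have hey : e * y * e⁻¹ ∈ Q := S.norm e hez y hy
  set r := e * y * e⁻¹ * y⁻¹ with hr
  have hrQ : r ∈ Q := mul_mem hey (inv_mem hy)
  have hπr : π r = M 1 φ y0 + y0 := by
    rw [hr, S.π_mul _ hey _ (inv_mem hy), S.π_inv hy, ← S.act_π hez hy, hπy, hf]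
  obtain ⟨c1, c2, -⟩ := y0_move φ hφ
  rw [← hπr] at c1 c2
  have her : Commute e r := mul_inv_eq_iff_eq_mul.1 (by
    rw [p.pair_formula he hφ hf hrQ c2, c1, (qe_facts φ hφ).1, zp_zero, zp_zero, one_mul, mul_one])
  have hyx : y * x * y⁻¹ ∈ Q := mul_mem (mul_mem hy hx) (inv_mem hy)
  refine ⟨y, r⁻¹ * (y * x * y⁻¹), S.mem_cz hy, ?_, mul_mem (inv_mem hrQ) hyx, ?_, ?_⟩
  · calc y * (e * x) * y⁻¹ = (r⁻¹ * e) * (y * x * y⁻¹) := by rw [hr]; group
      _ = (e * r⁻¹) * (y * x * y⁻¹) := by rw [her.inv_right.eq]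
      _ = _ := by group
  all_goals rw [S.π_mul _ (inv_mem hrQ) _ hyx, S.π_inv hrQ, S.π_conjQ hx hy]
  · rw [Pi.add_apply, c2, h5, add_zero]
  · rw [co_add, c1, add_comm]

end Pair

/-- The standard second involution. -/
structure Std {S : Suz z Q π} {u g : G} (_p : S.Pair u g) (e x : G) : Prop where
  e_mem : e ∈ S.sie g
  e_form : ∀ v, S.act e v = M 1 φ01 v
  x_mem : x ∈ Q
  x_five : π x 5 = 0
  x_co : co (π x) = m02

namespace Std

variable {S} {u g e₁ x₀ : G} {p : S.Pair u g} (D : Std p e₁ x₀)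
include D

theorem t_cz : e₁ * x₀ * z = z * (e₁ * x₀) := cz_mul (p.sie_comm D.e_mem).1 (S.mem_cz D.x_mem)

theorem x_sq : x₀ * x₀ = z := by
  rw [S.sq_eq D.x_mem, (perp_facts _ D.x_five).1, D.x_co, show qe m02 = 1 by decide +kernel, zp_one]

theorem e_x : e₁ * x₀ * e₁⁻¹ = x₀ * (z * u) := by
  rw [p.pair_formula D.e_mem std_facts.1 D.e_form D.x_mem D.x_five, D.x_co, std_facts.2.2.2.2.2.1, zp_one, zp_one]

theorem e_sq : e₁ * e₁ = u := by
  rw [p.sie_sq D.e_mem std_facts.1 D.e_form, std_facts.2.2.2.1, zp_one]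

theorem t_sq : e₁ * x₀ * (e₁ * x₀) = 1 := by
  calc e₁ * x₀ * (e₁ * x₀) = e₁ * x₀ * e₁⁻¹ * (e₁ * e₁) * x₀ := by group
    _ = x₀ * (z * (u * u)) * x₀ := by rw [D.e_x, D.e_sq]; group
    _ = x₀ * (x₀ * z) := by rw [p.uu, mul_one, mul_assoc, S.extra.z_comm D.x_mem]
    _ = 1 := by rw [← mul_assoc, D.x_sq, S.extra.z_sq]

theorem t_act (v : V) : S.act (e₁ * x₀) v = M 1 φ01 v := by
  rw [S.act_mul (p.sie_comm D.e_mem).1 (S.mem_cz D.x_mem), S.act_Q D.x_mem, D.e_form]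

theorem t_not_tsing : ¬ Tsing S (e₁ * x₀) := by
  intro h
  have h' := h y0
  rw [D.t_act, (y0_move φ01 std_facts.1).2.2, std_facts.2.2.2.1] at h'
  exact one_ne_zero h'

theorem t_notMem : e₁ * x₀ ∉ Q := fun h => D.t_not_tsing fun v => by rw [S.act_Q h, add_self_V, q_zero]

/-- The elements `e₁ x₀ d`, `d ∈ ⟨z, u⟩`, are conjugate. -/
theorem fine {d : G} (hd : d = 1 ∨ d = z ∨ d = u ∨ d = u * z) :
    ∃ k, k * z = z * k ∧ k * (e₁ * x₀) * k⁻¹ = e₁ * x₀ * d := by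
  obtain ⟨hez, -⟩ := p.sie_comm D.e_mem
  obtain ⟨r, hr, hπr⟩ := S.π_surj (P φ01)
  obtain ⟨c1, -, c3⟩ := co_P φ01 std_facts.1
  rw [← hπr] at c1 c3
  have her : Commute e₁ r := mul_inv_eq_iff_eq_mul.1 (by
    rw [p.pair_formula D.e_mem std_facts.1 D.e_form hr c3, c1, std_facts.2.2.2.2.1, zp_zero, zp_zero, one_mul,
      mul_one])
  have hrx : r * x₀ * r⁻¹ = x₀ * z := by
    rw [S.conj_eq D.x_mem hr, perp_polar _ _ c3 D.x_five, c1, D.x_co, std_facts.2.2.2.2.2.2.1, zp_one]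
  have hrz : r * z * r⁻¹ = z := by rw [S.mem_cz hr, mul_inv_cancel_right]
  have hru : r * u * r⁻¹ = u := by rw [p.comm_of_π hr c3, mul_inv_cancel_right]
  have mz : r * (e₁ * x₀) * r⁻¹ = e₁ * x₀ * z := by
    calc r * (e₁ * x₀) * r⁻¹ = (r * e₁) * x₀ * r⁻¹ := by group
      _ = e₁ * (r * x₀ * r⁻¹) := by rw [← her.eq]; group
      _ = _ := by rw [hrx, mul_assoc]
  have muz : x₀ * (e₁ * x₀) * x₀⁻¹ = e₁ * x₀ * (u * z) := by
    have h := D.e_x
    have huz : (u * z) * (z * u) = 1 := by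
      rw [mul_assoc, ← mul_assoc z z u, S.extra.z_sq, one_mul, p.uu]
    have hcomm : (z * u) * e₁ = e₁ * (z * u) := by
      rw [mul_assoc, ← (p.sie_comm D.e_mem).2, ← mul_assoc, ← hez, mul_assoc]
    calc x₀ * (e₁ * x₀) * x₀⁻¹ = x₀ * e₁ := by group
      _ = x₀ * e₁ * ((z * u) * (u * z)) := by
          rw [mul_assoc z u (u * z), ← mul_assoc u u z, p.uu, one_mul, S.extra.z_sq, mul_one]
      _ = x₀ * (e₁ * (z * u)) * (u * z) := by group
      _ = (x₀ * (z * u)) * e₁ * (u * z) := by rw [← hcomm]; group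
      _ = e₁ * x₀ * (u * z) := by rw [← h]; group
  rcases hd with e | e | e | e <;> rw [e]
  · exact ⟨1, by simp, by simp⟩
  · exact ⟨r, S.mem_cz hr, mz⟩
  · refine ⟨r * x₀, cz_mul (S.mem_cz hr) (S.mem_cz D.x_mem), ?_⟩
    calc r * x₀ * (e₁ * x₀) * (r * x₀)⁻¹ = r * (x₀ * (e₁ * x₀) * x₀⁻¹) * r⁻¹ := by group
      _ = (r * (e₁ * x₀) * r⁻¹) * (r * u * r⁻¹) * (r * z * r⁻¹) := by rw [muz]; group
      _ = e₁ * x₀ * (z * u * z) := by rw [mz, hru, hrz]; group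
      _ = _ := by rw [← p.uz, mul_assoc u, S.extra.z_sq, mul_one]
  · exact ⟨x₀, S.mem_cz D.x_mem, muz⟩

/-- Every involution of `C(z) ∖ Q` is conjugate into `g Q g⁻¹` or to the standard one. -/
theorem classify {c : G} (hc : c * z = z * c) (hcQ : c ∉ Q) (hcc : c * c = 1) :
    (∃ k, k * z = z * k ∧ k * c * k⁻¹ ∈ S.sie g) ∨ ∃ k, k * z = z * k ∧ k * c * k⁻¹ = e₁ * x₀ := by
  obtain ⟨k, hk, φ, hφ, hφ0, hf⟩ := p.normalise hc hcQ hcc
  obtain ⟨e, he, hef⟩ := p.exists_sie hφ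
  obtain ⟨hez, -⟩ := p.sie_comm he
  have hkc := cz_mul (cz_mul hk hc) (cz_inv hk)
  set x := e⁻¹ * (k * c * k⁻¹) with hxdef
  have hx : x ∈ Q := S.mem_of_act_id (cz_mul (cz_inv hez) hkc) fun v => by
    rw [S.act_mul (cz_inv hez) hkc, hf, ← hef, S.act_inv_act hez]
  have hk_eq : k * c * k⁻¹ = e * x := by rw [hxdef, mul_inv_cancel_left]
  have hinv : ∀ l : G, l * (k * c * k⁻¹) * l⁻¹ * (l * (k * c * k⁻¹) * l⁻¹) = 1 := fun l => by
    rw [conj_mul, conj_mul, hcc]; group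
  obtain ⟨h5, hdot, hqe⟩ := p.involution_eqs he hφ hφ0 hef hx (by
    have := hinv 1; simpa [← hk_eq] using this)
  have comb : ∀ l : G, l * z = z * l → (l * k) * z = z * (l * k) ∧ l * k * c * (l * k)⁻¹ = l * (e * x) * l⁻¹ :=
    fun l hl => ⟨cz_mul hl hk, by rw [← hk_eq]; group⟩
  rcases two_cases (qe φ) with hA | hB
  · left
    rw [hA] at hdot hqe
    rcases case_singular φ _ hφ (ev_co _) hφ0 hA hqe hdot with e0 | e0
    · exact ⟨k, hk, by rw [hk_eq]; exact mul_mem he (p.mem_of_over hx ((perp_facts _ h5).2.2 e0))⟩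
    · obtain ⟨l, x', hl, hle, hx', h5', hco'⟩ := p.shift he hφ hef hx h5
      rw [e0, add_self_W] at hco'
      obtain ⟨h1, h2⟩ := comb l hl
      exact ⟨l * k, h1, by rw [h2, hle]; exact mul_mem he (p.mem_of_over hx' ((perp_facts _ h5').2.2 hco'))⟩
  · right
    obtain ⟨τ, hτ, hτφ⟩ := to_φ01 φ hφ hB
    obtain ⟨l₁, x₁, hl₁, h₁, hx₁, h5₁, -⟩ := p.move he D.e_mem hφ hef D.e_form hx h5 hτ hτφ
    obtain ⟨-, hdot₁, hqe₁⟩ := p.involution_eqs D.e_mem std_facts.1 std_facts.2.2.1 D.e_form hx₁ (by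
      rw [← h₁, ← hk_eq]; exact hinv l₁)
    rw [std_facts.2.2.2.1] at hdot₁ hqe₁
    obtain ⟨τ', hτ', hfix, hcase⟩ := case_nonsingular _ (ev_co _) hqe₁ hdot₁
    obtain ⟨l₂, x₂, hl₂, h₂, hx₂, h5₂, hco₂⟩ :=
      p.move D.e_mem D.e_mem std_facts.1 D.e_form D.e_form hx₁ h5₁ hτ' hfix
    obtain ⟨l₃, x₃, hl₃, h₃, hx₃, h5₃, hco₃⟩ : ∃ l x', l * z = z * l ∧ l * (e₁ * x₂) * l⁻¹ = e₁ * x' ∧
        x' ∈ Q ∧ π x' 5 = 0 ∧ co (π x') = m02 := by
      rcases hcase with hm | hm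
      · exact ⟨1, x₂, by simp, by simp, hx₂, h5₂, by rw [hco₂]; exact funext hm⟩
      · obtain ⟨l, x', a1, a2, a3, a4, a5⟩ := p.shift D.e_mem std_facts.1 D.e_form hx₂ h5₂
        exact ⟨l, x', a1, a2, a3, a4, by rw [a5, hco₂]; exact funext hm⟩
    set d := x₀⁻¹ * x₃ with hd
    have hdQ : d ∈ Q := mul_mem (inv_mem D.x_mem) hx₃
    have hdπ : π d = π x₀ + π x₃ := by rw [hd, S.π_mul _ (inv_mem D.x_mem) _ hx₃, S.π_inv D.x_mem]
    have hd0 := p.mem_of_over hdQ ((perp_facts _ (by rw [hdπ, Pi.add_apply, D.x_five, h5₃, add_zero])).2.2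
      (by rw [hdπ, co_add, D.x_co, hco₃, add_self_W]))
    obtain ⟨l₄, hl₄, h₄⟩ := D.fine (p.meet_cases hdQ (mem_sie.1 hd0).2)
    rw [hd, mul_assoc e₁ x₀ (x₀⁻¹ * x₃), mul_inv_cancel_left] at h₄
    have hl := cz_mul (cz_mul (cz_mul (cz_inv hl₄) hl₃) hl₂) hl₁
    obtain ⟨a1, a2⟩ := comb _ hl
    refine ⟨_, a1, ?_⟩
    rw [a2]
    calc l₄⁻¹ * l₃ * l₂ * l₁ * (e * x) * (l₄⁻¹ * l₃ * l₂ * l₁)⁻¹
        = l₄⁻¹ * (l₃ * (l₂ * (l₁ * (e * x) * l₁⁻¹) * l₂⁻¹) * l₃⁻¹) * l₄ := by group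
      _ = l₄⁻¹ * (l₄ * (e₁ * x₀) * l₄⁻¹) * l₄ := by rw [h₁, h₂, h₃, h₄]
      _ = e₁ * x₀ := by group

/-- An element of a conjugate of `Q` through a point of `Q` has totally singular commutator space. -/
theorem tsing_of_mem {d g' c : G} (hd : d ∈ Q) (hd' : g' * z * g'⁻¹ = d) (hdz : d ≠ z)
    (hc : c * z = z * c) (hcc : c * c = 1) (hcg : g'⁻¹ * c * g' ∈ Q) : Tsing S c := by
  have hd1 : d ≠ 1 := fun e => S.extra.z_ne (by rw [← hd'] at e; exact conj_eq_one_iff.1 e)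
  have hdd : d * d = 1 := by rw [← hd', conj_mul, S.extra.z_sq]; group
  obtain ⟨k, hk, hkd⟩ := S.transitive (fun e => ((S.π_ker d hd).1 e).elim hd1 hdz) ((S.q_iff d hd).2 hdd)
    (v := u0) (by decide) (by decide)
  rw [S.act_π hk hd, ← p.π_u] at hkd
  have hkdQ := S.norm k hk d hd
  obtain ⟨k', hk', hk'd⟩ : ∃ k', k' * z = z * k' ∧ k' * d * k'⁻¹ = u := by
    rcases S.π_eq hkdQ p.u_mem hkd with e | e
    · exact ⟨k, hk, e.symm⟩
    · obtain ⟨l, hl, hle⟩ := S.extra.exists_conj_eq hkdQ (fun e' => hd1 (conj_eq_one_iff.1 e')) (fun e' => hdz (by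
        calc d = k⁻¹ * (k * d * k⁻¹) * k := by group
          _ = z := by rw [e', mul_assoc, ← hk, inv_mul_cancel_left]))
      exact ⟨l * k, cz_mul (S.mem_cz hl) hk, by rw [e, ← hle]; group⟩
  refine tsing_conj S hk' hc ?_
  have hkc : k' * c * k'⁻¹ ∈ S.sie g := by
    refine mem_sie.2 ⟨cz_mul (cz_mul hk' hc) (cz_inv hk'), ?_⟩
    rw [conj_mem_iff S.centralizer_le_normalizer (k := k' * g') (by rw [p.conj, ← hk'd, ← hd']; group)]
    simpa [mul_assoc] using hcg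
  obtain ⟨φ, hφ, hf⟩ := p.sie_form hkc
  have hsq := congrArg π (p.sie_sq hkc hφ hf)
  rw [conj_mul, hcc, mul_one, mul_inv_cancel, S.π_one, p.up_π] at hsq
  have hq : qe φ = 0 := by simpa [u0] using (congrFun hsq 4).symm
  intro v
  rw [hf]
  exact (M_one_co φ hφ v).2.2 hq

/-- No element of `G` maps `z` to the standard second involution. -/
theorem not_conj : ¬ IsConj z (e₁ * x₀) := by
  classical
  intro hconj
  obtain ⟨h₀, hh₀⟩ := isConj_iff.1 hconj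
  set t := e₁ * x₀ with ht
  have htz : t ≠ z := fun e => D.t_notMem (show t ∈ Q by rw [e]; exact S.extra.z_mem)
  -- `Q` and its conjugate at `t` meet trivially
  have disj : ∀ h : G, h * z * h⁻¹ = t → ∀ x, x ∈ Q → h⁻¹ * x * h ∈ Q → x = 1 := by
    intro h hh
    have hzn : h⁻¹ * z * h ∉ Q := by
      intro hm
      have hne : h⁻¹ * z * h ≠ z := fun e => htz (by
        rw [← hh]
        calc h * z * h⁻¹ = h * (h⁻¹ * z * h) * h⁻¹ := by rw [e]
          _ = z := by group)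
      have := S.symm (g := h⁻¹) (by rwa [inv_inv]) (by rwa [inv_inv])
      rw [inv_inv, hh] at this
      exact D.t_notMem this
    intro x hx hxh
    by_contra hx1
    rcases S.extra.sq_cases hx with e | e
    swap
    · apply hzn
      rw [← e]
      have := mul_mem hxh hxh
      rwa [show h⁻¹ * x * h * (h⁻¹ * x * h) = h⁻¹ * (x * x) * h by group] at this
    by_cases hxz : x = z
    · exact hzn (hxz ▸ hxh)
    obtain ⟨g', hg'⟩ := isConj_iff.1 (S.conj_z_of_mem hx e hx1)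
    have hne : (h⁻¹ * g') * z * (h⁻¹ * g')⁻¹ ≠ z := fun e' => D.t_notMem (by
      have : x = t := by
        rw [← hh, ← hg']
        calc g' * z * g'⁻¹ = h * ((h⁻¹ * g') * z * (h⁻¹ * g')⁻¹) * h⁻¹ := by group
          _ = _ := by rw [e']
      show t ∈ Q
      rw [← this]; exact hx)
    have hsym := S.symm (g := h⁻¹ * g')
      (by rwa [show (h⁻¹ * g') * z * (h⁻¹ * g')⁻¹ = h⁻¹ * (g' * z * g'⁻¹) * h by group, hg']) hne
    rw [show (h⁻¹ * g')⁻¹ * z * (h⁻¹ * g') = g'⁻¹ * (h * z * h⁻¹) * g' by group, hh] at hsym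
    exact D.t_not_tsing (D.tsing_of_mem hx hg' hxz D.t_cz D.t_sq hsym)
  -- choose the conjugating element so that it interchanges `z` and `t`
  obtain ⟨h, hzt, htz'⟩ : ∃ h, h * z * h⁻¹ = t ∧ h⁻¹ * z * h = t := by
    set z' := h₀⁻¹ * z * h₀ with hz'
    have hz'z : z' * z = z * z' := by
      calc z' * z = h₀⁻¹ * (z * t) * h₀ := by rw [hz', ← hh₀]; group
        _ = z * z' := by rw [← D.t_cz, hz', ← ht, ← hh₀]; group
    have hz'Q : z' ∉ Q := fun hm => S.extra.z_ne (disj h₀ hh₀ z S.extra.z_mem hm)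
    have hz'2 : z' * z' = 1 := by
      rw [hz', show h₀⁻¹ * z * h₀ * (h₀⁻¹ * z * h₀) = h₀⁻¹ * (z * z) * h₀ by group, S.extra.z_sq]; group
    rcases D.classify hz'z hz'Q hz'2 with ⟨k, hk, hks⟩ | ⟨k, hk, hks⟩
    · exfalso
      set g' := k⁻¹ * g with hg'
      have hd : g' * z * g'⁻¹ ∈ Q := by
        rw [hg', show k⁻¹ * g * z * (k⁻¹ * g)⁻¹ = k⁻¹ * (g * z * g⁻¹) * k by group, p.conj]
        simpa using S.norm k⁻¹ (cz_inv hk) u p.u_mem
      have hm : g'⁻¹ * z' * g' ∈ Q := by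
        rw [hg', show (k⁻¹ * g)⁻¹ * z' * (k⁻¹ * g) = g⁻¹ * (k * z' * k⁻¹) * g by group]
        exact (mem_sie.1 hks).2
      have hne : g'⁻¹ * z' * g' ≠ z := fun e => hz'Q (by
        rw [show z' = g' * (g'⁻¹ * z' * g') * g'⁻¹ by group, e]; exact hd)
      have e1 : (h₀ * g')⁻¹ * z * (h₀ * g') = g'⁻¹ * z' * g' := by rw [hz']; group
      have hsym := S.symm (g := (h₀ * g')⁻¹) (by rwa [inv_inv, e1]) (by rwa [inv_inv, e1])
      rw [inv_inv, show h₀ * g' * z * (h₀ * g')⁻¹ = h₀ * (g' * z * g'⁻¹) * h₀⁻¹ by group] at hsym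
      have h1 := disj h₀ hh₀ _ hsym (by simpa [mul_assoc] using hd)
      exact S.extra.z_ne (conj_eq_one_iff.1 (conj_eq_one_iff.1 h1))
    · refine ⟨h₀ * k⁻¹, ?_, ?_⟩
      · rw [← hh₀]
        calc h₀ * k⁻¹ * z * (h₀ * k⁻¹)⁻¹ = h₀ * (k⁻¹ * (z * k)) * h₀⁻¹ := by group
          _ = _ := by rw [← hk, inv_mul_cancel_left]
      · rw [ht, ← hks, hz']; group
  -- the centraliser of `t` in `Q` is too big
  let R : Subgroup G := Q ⊓ Subgroup.centralizer ({t} : Set G)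
  have hR : ∀ r, r ∈ R ↔ r ∈ Q ∧ r * t = t * r := fun r => by
    simp [R, Subgroup.mem_centralizer_singleton_iff]
  obtain ⟨k3, hk3, hπ3⟩ := S.π_surj (P (pt 3))
  obtain ⟨k4, hk4, hπ4⟩ := S.π_surj (P (pt 4))
  have hkt : ∀ k i, k ∈ Q → π k = P (pt i) → dot (pt i) φ01 = 0 → dot (pt i) m02 = 0 → k ∈ R := by
    intro k i hk hπ a b
    obtain ⟨c1, -, c3⟩ := co_P _ (ev_pt i)
    rw [← hπ] at c1 c3
    have h1 : e₁ * k = k * e₁ := mul_inv_eq_iff_eq_mul.1 (by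
      rw [p.pair_formula D.e_mem std_facts.1 D.e_form hk c3, c1, a, zp_zero, zp_zero, one_mul, mul_one])
    have h2 : k * x₀ = x₀ * k := (S.comm_iff hk D.x_mem).2 (by rw [perp_polar _ _ c3 D.x_five, c1, D.x_co, b])
    exact (hR k).2 ⟨hk, (Commute.mul_right h1.symm h2).eq⟩
  obtain ⟨-, -, -, -, -, -, -, f3, f4, g3, g4⟩ := std_facts
  have hk3R := hkt k3 3 hk3 hπ3 f3 g3
  have hk4R := hkt k4 4 hk4 hπ4 f4 g4
  have huR : u ∈ R := (hR u).2 ⟨p.u_mem,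
    (Commute.mul_right (p.sie_comm D.e_mem).2.symm (p.comm_of_π D.x_mem D.x_five).symm).eq⟩
  have hr'z : ∀ r : ↥R, h * r * h⁻¹ * z = z * (h * r * h⁻¹) := by
    intro r
    have := ((hR r).1 r.2).2
    calc h * r * h⁻¹ * z = h * ((r : G) * t) * h⁻¹ := by rw [← htz']; group
      _ = z * (h * r * h⁻¹) := by rw [this, ← htz']; group
  have hcomm : ∀ (r : ↥R) (s : G), s ∈ R → h * r * h⁻¹ * s = s * (h * r * h⁻¹) := by
    intro r s hs
    obtain ⟨hsQ, hst⟩ := (hR s).1 hs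
    obtain ⟨hrQ, -⟩ := (hR r).1 r.2
    have h1 : h * r * h⁻¹ * s * (h * r * h⁻¹)⁻¹ * s⁻¹ ∈ Q := mul_mem (S.norm _ (hr'z r) s hsQ) (inv_mem hsQ)
    refine mul_inv_eq_iff_eq_mul.1 (mul_inv_eq_one.1 (disj h hzt _ h1 ?_))
    have hsz : h⁻¹ * s * h * z = z * (h⁻¹ * s * h) := by
      calc h⁻¹ * s * h * z = h⁻¹ * (s * t) * h := by rw [← hzt]; group
        _ = z * (h⁻¹ * s * h) := by rw [hst, ← hzt]; group
    have := mul_mem hrQ (S.norm _ hsz _ (inv_mem hrQ))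
    rwa [show (r : G) * (h⁻¹ * s * h * (r : G)⁻¹ * (h⁻¹ * s * h)⁻¹) =
      h⁻¹ * (h * r * h⁻¹ * s * (h * r * h⁻¹)⁻¹ * s⁻¹) * h by group] at this
  have hform : ∀ r : ↥R, ∃ φ, Ev φ ∧ φ 3 = 0 ∧ φ 4 = 0 ∧ ∀ v, S.act (h * r * h⁻¹) v = M 1 φ v := by
    intro r
    have hfix : ∀ s, s ∈ R → S.act (h * r * h⁻¹) (π s) = π s := fun s hs => by
      rw [S.act_π (hr'z r) ((hR s).1 hs).1, hcomm r s hs, mul_inv_cancel_right]
    obtain ⟨σ, φ, hφ, hf⟩ := exists_form (S.act_iso (hr'z r)) (by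
      have := hfix u huR; rwa [p.π_u] at this)
    have key : ∀ i j, ∀ a : ZMod 2, P (pt j) + a • u0 = P (pt i) → j = i ∧ a = 0 := by decide +kernel
    have h3 := hfix k3 hk3R
    have h4 := hfix k4 hk4R
    rw [hπ3, hf, M_pt σ hφ] at h3
    rw [hπ4, hf, M_pt σ hφ] at h4
    obtain ⟨a3, b3⟩ := key _ _ _ h3
    obtain ⟨a4, b4⟩ := key _ _ _ h4
    rw [a3] at b3
    rw [a4] at b4
    have hσ : σ = 1 := by
      refine fixes_two σ (p.form_even (hr'z r) hφ hf) a3 a4 ?_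
      have hr4 : (r : G) * r * ((r : G) * r) = 1 := by
        rcases S.extra.sq_cases ((hR r).1 r.2).1 with e | e <;> rw [e]
        · simp
        · exact S.extra.z_sq
      set r' := h * r * h⁻¹ with hr'
      have h2z := cz_mul (hr'z r) (hr'z r)
      have f2 : ∀ v, S.act (r' * r') v = M (σ * σ) ((fun i => φ (σ⁻¹ i)) + φ) v := fun v => by
        rw [S.act_mul (hr'z r) (hr'z r)]
        exact form_comp (S.act_iso (hr'z r)) (S.act_iso (hr'z r)) hφ hφ hf hf v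
      have f4' := form_comp (S.act_iso h2z) (S.act_iso h2z) (ev_add (ev_perm hφ _) hφ) (ev_add (ev_perm hφ _) hφ) f2 f2
      have := (M_unique (τ := 1) (ev_add (ev_perm (ev_add (ev_perm hφ _) hφ) _) (ev_add (ev_perm hφ _) hφ)) ev_zero
        fun v => by
          rw [← f4', ← S.act_mul h2z h2z, show r' * r' * (r' * r') = h * ((r : G) * r * ((r : G) * r)) * h⁻¹ by
            rw [hr']; group, hr4, evM_zero, mul_one, mul_inv_cancel, S.act_one]).1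
      rw [show σ ^ 4 = σ * σ * (σ * σ) by simp [pow_succ, mul_assoc]]
      exact this
    subst hσ
    exact ⟨φ, hφ, b3, b4, hf⟩
  choose Φ hΦ h30 h40 hΦf using hform
  have hinj : Function.Injective fun r : ↥R => (Φ r 0, Φ r 1) := by
    intro r s he
    simp only [Prod.mk.injEq] at he
    have e := tail_zero _ _ (hΦ r) (hΦ s) (h30 r) (h40 r) (h30 s) (h40 s) he.1 he.2
    have hsz := hr'z s
    have hm : (h * s * h⁻¹)⁻¹ * (h * r * h⁻¹) ∈ Q := S.mem_of_act_id (cz_mul (cz_inv hsz) (hr'z r)) fun v => by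
      rw [S.act_mul (cz_inv hsz) (hr'z r), hΦf, e, ← hΦf, S.act_inv_act hsz]
    have h1 := disj h hzt _ hm (by
      rw [show h⁻¹ * ((h * s * h⁻¹)⁻¹ * (h * r * h⁻¹)) * h = (s : G)⁻¹ * r by group]
      exact mul_mem (inv_mem ((hR s).1 s.2).1) ((hR r).1 r.2).1)
    rw [inv_mul_eq_one] at h1
    exact Subtype.ext (by simpa using h1.symm)
  have hle := Nat.card_le_card_of_injective _ hinj
  rw [Nat.card_prod, Nat.card_zmod] at hle
  have hzR : z ∈ R := (hR z).2 ⟨S.extra.z_mem, by rw [ht]; exact D.t_cz.symm⟩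
  let F : Fin 5 → ↥R := ![1, ⟨z, hzR⟩, ⟨u, huR⟩, ⟨u, huR⟩ * ⟨z, hzR⟩, ⟨k3, hk3R⟩]
  have hF : Function.Injective F := by
    let L : ↥R → V × Bool := fun r => (π (r : G), decide ((r : G) = 1 ∨ (r : G) = u))
    refine Function.Injective.of_comp (f := L) ?_
    have hk3' : ¬ (k3 = 1 ∨ k3 = u) := by
      rintro (e | e) <;> rw [e] at hπ3
      · rw [S.π_one] at hπ3; revert hπ3; decide +kernel
      · rw [p.π_u] at hπ3; revert hπ3; decide +kernel
    have hz' : ¬ (z = 1 ∨ z = u) := by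
      rintro (e | e)
      · exact S.extra.z_ne e
      · exact p.u_ne_z e.symm
    have hp : π (u * z) = u0 := by rw [S.π_mul u p.u_mem z S.extra.z_mem, p.π_u, S.π_z, add_zero]
    have huz : ¬ (u * z = 1 ∨ u * z = u) := by
      rintro (e | e)
      · exact p.u_ne_z (by rw [← S.extra.inv_z]; exact eq_inv_of_mul_eq_one_left e)
      · exact S.extra.z_ne (mul_eq_left.1 e)
    have hLF : L ∘ F = ![((0 : V), true), (0, false), (u0, true), (u0, false), (P (pt 3), false)] := by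
      funext i
      fin_cases i <;> simp [L, F, S.π_one, S.π_z, p.π_u, hπ3, (not_or.1 hk3').1, (not_or.1 hk3').2, (not_or.1 hz').1, (not_or.1 hz').2, hp, (not_or.1 huz).1, S.extra.z_ne]
    rw [hLF]
    decide +kernel
  have := Nat.card_le_card_of_injective F hF
  rw [Nat.card_fin] at this
  omega

end Std

/-- Exactly two classes of involutions. -/
theorem two_classes (S : Suz z Q π) :
    ∃ a b : G, orderOf a = 2 ∧ orderOf b = 2 ∧ ¬ IsConj a b ∧ ∀ x : G, orderOf x = 2 → IsConj x a ∨ IsConj x b := by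
  obtain ⟨u, g, p⟩ := S.exists_pair
  obtain ⟨e₁, he, hef⟩ := p.exists_sie std_facts.1
  obtain ⟨x₀, hx, hπx⟩ := S.π_surj (P m02)
  obtain ⟨c1, -, c3⟩ := co_P m02 std_facts.2.1
  have D : Std p e₁ x₀ := ⟨he, hef, hx, by rw [hπx, c3], by rw [hπx, c1]⟩
  haveI : Fact (Nat.Prime 2) := ⟨Nat.prime_two⟩
  refine ⟨z, e₁ * x₀, orderOf_eq_prime (by rw [pow_two, S.extra.z_sq]) S.extra.z_ne,
    orderOf_eq_prime (by rw [pow_two, D.t_sq]) (fun e => D.t_notMem (e ▸ one_mem Q)), D.not_conj, fun x hx2 => ?_⟩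
  have hxx : x * x = 1 := by rw [← pow_two, ← hx2, pow_orderOf_eq_one]
  have hx1 : x ≠ 1 := fun e => by simp [e] at hx2
  obtain ⟨k, hk⟩ := S.into x hx2
  set c := k * x * k⁻¹ with hc
  have hxc : IsConj x c := isConj_iff.2 ⟨k, rfl⟩
  have hcc : c * c = 1 := by rw [hc, conj_mul, hxx]; group
  have hc1 : c ≠ 1 := fun e => hx1 (conj_eq_one_iff.1 e)
  by_cases hcQ : c ∈ Q
  · exact Or.inl (hxc.trans (S.conj_z_of_mem hcQ hcc hc1).symm)
  rcases D.classify hk hcQ hcc with ⟨l, -, hl⟩ | ⟨l, -, hl⟩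
  · left
    have hcl : IsConj c (g⁻¹ * (l * c * l⁻¹) * g) := isConj_iff.2 ⟨g⁻¹ * l, by group⟩
    have h2 : g⁻¹ * (l * c * l⁻¹) * g * (g⁻¹ * (l * c * l⁻¹) * g) = 1 := by
      rw [show g⁻¹ * (l * c * l⁻¹) * g * (g⁻¹ * (l * c * l⁻¹) * g) = g⁻¹ * l * (c * c) * l⁻¹ * g by group, hcc]
      group
    have h1 : g⁻¹ * (l * c * l⁻¹) * g ≠ 1 := fun e => hc1 (by
      calc c = l⁻¹ * g * (g⁻¹ * (l * c * l⁻¹) * g) * g⁻¹ * l := by group
        _ = 1 := by rw [e]; group)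
    exact hxc.trans (hcl.trans (S.conj_z_of_mem (mem_sie.1 hl).2 h2 h1).symm)
  · right
    exact hxc.trans (isConj_iff.2 ⟨l, hl⟩)

end Suz

end CfsgLib.Characterizations.SuzType
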