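import Mathlib

/-!
# The six-dimensional quadratic space of minus type over the field of two elements

Coordinates adapted to a singular point `u0`: `u0^⊥/u0` is the space of even subsets of five points.
-/

set_option autoImplicit false

namespace CfsgLib.Characterizations.SuzType

/-- The space. -/
abbrev V := Fin 6 → ZMod 2

/-- Vectors indexed by five points. -/
abbrev W5 := Fin 5 → ZMod 2

/-- The quadratic form. -/
def q (v : V) : ZMod 2 :=
  v 0 + v 1 + v 2 + v 3 + v 0 * v 1 + v 0 * v 2 + v 0 * v 3 + v 1 * v 2 + v 1 * v 3 + v 2 * v 3 + v 4 * v 5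

/-- Its polarisation. -/
def B (x y : V) : ZMod 2 :=
  x 0 * (y 1 + y 2 + y 3) + x 1 * (y 0 + y 2 + y 3) + x 2 * (y 0 + y 1 + y 3) + x 3 * (y 0 + y 1 + y 2) +
    x 4 * y 5 + x 5 * y 4

/-- The distinguished singular point. -/
def u0 : V := ![0, 0, 0, 0, 1, 0]

/-- Its hyperbolic partner. -/
def y0 : V := ![0, 0, 0, 0, 0, 1]

/-- The coordinates modulo `⟨u0, y0⟩` as an even vector on five points. -/
def co (v : V) : W5 := ![v 0 + v 1 + v 2 + v 3, v 0, v 1, v 2, v 3]

/-- Even vectors. -/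
def Ev (e : W5) : Prop := e 0 + e 1 + e 2 + e 3 + e 4 = 0

instance : DecidablePred Ev := fun e => inferInstanceAs (Decidable (_ = _))

/-- The point with coordinates `e`. -/
def P (e : W5) : V := ![e 1, e 2, e 3, e 4, 0, 0]

/-- The five singular points of `u0^⊥/u0`. -/
def pt (i : Fin 5) : W5 := fun j => if j = i then 0 else 1

/-- The pairing of five-point vectors. -/
def dot (e f : W5) : ZMod 2 := e 0 * f 0 + e 1 * f 1 + e 2 * f 2 + e 3 * f 3 + e 4 * f 4

/-- The form on five-point vectors. -/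
def qe (e : W5) : ZMod 2 := q (P e)

theorem two_cases (a : ZMod 2) : a = 0 ∨ a = 1 := by revert a; decide

theorem add_self_V (v : V) : v + v = 0 := funext fun _ => CharTwo.add_self_eq_zero _

theorem add_self_W (e : W5) : e + e = 0 := funext fun _ => CharTwo.add_self_eq_zero _

theorem q_add (x y : V) : q (x + y) = q x + q y + B x y := by simp [q, B]; ring

theorem B_add_left (x y w : V) : B (x + y) w = B x w + B y w := by simp [B]; ring

theorem B_comm (x y : V) : B x y = B y x := by simp [B]; ring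

theorem q_zero : q 0 = 0 := by simp [q]

theorem B_u0 (v : V) : B v u0 = v 5 := by simp [B, u0]

theorem co_add (x y : V) : co (x + y) = co x + co y := by
  funext i; fin_cases i <;> simp [co] <;> ring

theorem co_zero : co 0 = 0 := by
  funext i; fin_cases i <;> simp [co]

theorem ev_add {e f : W5} (he : Ev e) (hf : Ev f) : Ev (e + f) := by
  simp only [Ev, Pi.add_apply] at *
  calc _ = (e 0 + e 1 + e 2 + e 3 + e 4) + (f 0 + f 1 + f 2 + f 3 + f 4) := by ring
    _ = 0 := by rw [he, hf, add_zero]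

theorem dot_add (e e' f : W5) : dot (e + e') f = dot e f + dot e' f := by simp [dot]; ring

theorem dot_comm (e f : W5) : dot e f = dot f e := by simp [dot]; ring

theorem ev_zero : Ev 0 := by simp [Ev]

set_option maxRecDepth 100000 in
theorem ev_co : ∀ v : V, Ev (co v) := by decide +kernel

theorem ev_perm {e : W5} (he : Ev e) (σ : Equiv.Perm (Fin 5)) : Ev (fun i => e (σ i)) := by
  have key : ∀ e : W5, Ev e ↔ ∑ i, e i = 0 := fun e => by
    simp [Ev, Fin.sum_univ_five]
  rw [key] at he ⊢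
  rw [Equiv.sum_comp σ e]
  exact he

set_option maxRecDepth 100000 in
theorem ev_pt : ∀ i, Ev (pt i) := by decide +kernel

set_option maxRecDepth 100000 in
theorem co_P : ∀ e : W5, Ev e → co (P e) = e ∧ P e 4 = 0 ∧ P e 5 = 0 := by decide +kernel

theorem pt_perm (σ : Equiv.Perm (Fin 5)) (i : Fin 5) : (fun j => pt i (σ⁻¹ j)) = pt (σ i) := by
  funext j
  simp only [pt, Equiv.Perm.inv_eq_iff_eq, eq_comm (a := σ i)]

set_option maxRecDepth 100000 in
theorem pt_injective : ∀ i j, pt i = pt j → i = j := by decide +kernel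

set_option maxRecDepth 100000 in
theorem zero_count : (Finset.univ.filter fun v : V => v ≠ 0 ∧ q v = 0).card = 27 := by decide +kernel

set_option maxRecDepth 100000 in
theorem perp_count : (Finset.univ.filter fun v : V => v 5 = 0).card = 32 := by decide +kernel

set_option maxRecDepth 100000 in
theorem ev_count : (Finset.univ.filter fun e : W5 => Ev e).card = 16 := by decide +kernel

/-! ### Isometries -/

/-- An isometry. -/
structure Iso (g : V → V) : Prop where
  add : ∀ x y, g (x + y) = g x + g y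
  quad : ∀ x, q (g x) = q x
  inj : Function.Injective g

namespace Iso

variable {g h : V → V}

theorem map_zero (hg : Iso g) : g 0 = 0 := by
  have := hg.add 0 0
  rw [add_zero, add_self_V] at this
  exact this

theorem polar (hg : Iso g) (x y : V) : B (g x) (g y) = B x y := by
  have h := q_add (g x) (g y)
  rw [← hg.add, hg.quad, hg.quad, hg.quad, q_add] at h
  linear_combination -h

theorem comp (hg : Iso g) (hh : Iso h) : Iso (g ∘ h) :=
  ⟨fun x y => by simp [hh.add, hg.add], fun x => (hg.quad _).trans (hh.quad x), hg.inj.comp hh.inj⟩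

theorem map_smul (hg : Iso g) (a : ZMod 2) (x : V) : g (a • x) = a • g x := by
  rcases two_cases a with rfl | rfl <;> simp [hg.map_zero]

theorem map_sum (hg : Iso g) {ι : Type} (s : Finset ι) (f : ι → V) : g (∑ i ∈ s, f i) = ∑ i ∈ s, g (f i) := by
  classical
  induction s using Finset.induction with
  | empty => simp [hg.map_zero]
  | insert a s ha ih => rw [Finset.sum_insert ha, Finset.sum_insert ha, hg.add, ih]

end Iso

/-- The transvection at a non-singular vector. -/
def trans (r x : V) : V := x + B x r • r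

theorem trans_iso {r : V} (hr : q r = 1) : Iso (trans r) := by
  have hrr : B r r = 0 := by
    have h := q_add r r
    rw [add_self_V, q_zero] at h
    linear_combination -h + (-q r) * (CharTwo.two_eq_zero (R := ZMod 2))
  refine ⟨fun x y => by simp [trans, B_add_left, add_smul]; abel, fun x => ?_, ?_⟩
  · unfold trans
    rcases two_cases (B x r) with h | h <;> rw [h]
    · simp
    · rw [one_smul, q_add, h, hr, add_assoc, CharTwo.add_self_eq_zero, add_zero]
  · have hinv : ∀ x, trans r (trans r x) = x := fun x => by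
      have : B (trans r x) r = B x r := by
        rcases two_cases (B x r) with h | h <;> simp [trans, h, B_add_left, hrr]
      rw [trans, this, trans, add_assoc, add_self_V, add_zero]
    exact Function.LeftInverse.injective hinv

set_option maxRecDepth 100000 in
theorem singular_link : ∀ v : V, q v = 0 → v = 0 ∨ v = u0 ∨ B v u0 = 1 ∨
    ∃ r : V, q r = 0 ∧ B r u0 = 1 ∧ B r v = 1 := by decide +kernel

/-- Every singular point is the image of `u0` under an isometry. -/
theorem exists_iso {u : V} (hu : u ≠ 0) (hq : q u = 0) : ∃ T : V → V, Iso T ∧ T u0 = u := by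
  have step : ∀ a b : V, q a = 0 → q b = 0 → B a b = 1 → ∃ T : V → V, Iso T ∧ T a = b := by
    intro a b ha hb hab
    refine ⟨trans (a + b), trans_iso (by rw [q_add, ha, hb, hab]; simp), ?_⟩
    have haa : B a a = 0 := by
      have h := q_add a a
      rw [add_self_V, q_zero, ha] at h
      simpa using h.symm
    have : B a (a + b) = 1 := by rw [B_comm, B_add_left, haa, B_comm b a, hab, zero_add]
    rw [trans, this, one_smul, ← add_assoc, add_self_V, zero_add]
  have hq0 : q u0 = 0 := by decide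
  rcases singular_link u hq with h | h | h | ⟨r, hr, h1, h2⟩
  · exact absurd h hu
  · exact ⟨id, ⟨fun _ _ => rfl, fun _ => rfl, Function.injective_id⟩, h.symm⟩
  · exact step u0 u hq0 hq (by rw [B_comm, h])
  · obtain ⟨T₁, hT₁, e₁⟩ := step u0 r hq0 hr (by rw [B_comm, h1])
    obtain ⟨T₂, hT₂, e₂⟩ := step r u hr hq h2
    exact ⟨T₂ ∘ T₁, hT₂.comp hT₁, by simp [e₁, e₂]⟩

/-! ### The stabiliser of `u0` -/

/-- Normal form in five-point coordinates. -/
def N (φ w : W5) (b t : ZMod 2) : V :=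
  ![w 1 + t * φ 1, w 2 + t * φ 2, w 3 + t * φ 3, w 4 + t * φ 4, b + dot w φ + t * qe φ, t]

/-- The isometry fixing `u0` with permutation `σ` and Siegel parameter `φ`. -/
def M (σ : Equiv.Perm (Fin 5)) (φ : W5) (v : V) : V :=
  N φ (fun i => co v (σ⁻¹ i)) (v 4) (v 5)

theorem M_add (σ : Equiv.Perm (Fin 5)) (φ : W5) (x y : V) : M σ φ (x + y) = M σ φ x + M σ φ y := by
  funext i
  fin_cases i <;> simp [M, N, co_add, dot] <;> ring

set_option maxRecDepth 100000 in
theorem decompose : ∀ v : V, v = (∑ i, co v i • P (pt i)) + v 4 • u0 + v 5 • y0 := by decide +kernel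

set_option maxRecDepth 100000 in
theorem pt_image : ∀ v : V, v 5 = 0 → q v = 0 → v = 0 ∨ v = u0 ∨ ∃ j, ∃ a : ZMod 2, v = P (pt j) + a • u0 := by
  decide +kernel

set_option maxRecDepth 100000 in
theorem y0_image : ∀ v : V, v 5 = 1 → q v = 0 → v = N (co v) 0 0 1 ∧
    ∀ j, ∀ a : ZMod 2, B v (P (pt j) + a • u0) = co v j + a := by decide +kernel

set_option maxRecDepth 100000 in
theorem N_pt : ∀ φ : W5, Ev φ → ∀ i, N φ (pt i) 0 0 = P (pt i) + φ i • u0 := by decide +kernel

set_option maxRecDepth 100000 in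
theorem N_zero : ∀ φ : W5, N φ 0 1 0 = u0 ∧ N φ 0 0 0 = 0 := by decide +kernel

set_option maxRecDepth 100000 in
theorem co_N : ∀ φ w : W5, Ev φ → Ev w → ∀ b t : ZMod 2,
    co (N φ w b t) = w + t • φ ∧ N φ w b t 5 = t := by decide +kernel

theorem M_pt (σ : Equiv.Perm (Fin 5)) {φ : W5} (hφ : Ev φ) (i : Fin 5) :
    M σ φ (P (pt i)) = P (pt (σ i)) + φ (σ i) • u0 := by
  obtain ⟨h1, h2, h3⟩ := co_P _ (ev_pt i)
  rw [M, h1, h2, h3, pt_perm, N_pt φ hφ]

theorem M_u0 (σ : Equiv.Perm (Fin 5)) (φ : W5) : M σ φ u0 = u0 := by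
  have h : co u0 = 0 := by decide
  rw [M, h]
  exact (N_zero φ).1

theorem M_y0 (σ : Equiv.Perm (Fin 5)) (φ : W5) : M σ φ y0 = N φ 0 0 1 := by
  have h : co y0 = 0 := by decide
  rw [M, h]
  rfl

theorem co_M {φ : W5} (hφ : Ev φ) (σ : Equiv.Perm (Fin 5)) (v : V) :
    co (M σ φ v) = (fun i => co v (σ⁻¹ i)) + v 5 • φ ∧ M σ φ v 5 = v 5 :=
  co_N φ _ hφ (ev_perm (ev_co v) _) _ _

/-- An isometry fixing `u0` has a normal form. -/
theorem exists_form {g : V → V} (hg : Iso g) (hu : g u0 = u0) :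
    ∃ (σ : Equiv.Perm (Fin 5)) (φ : W5), Ev φ ∧ ∀ v, g v = M σ φ v := by
  classical
  have h5 : ∀ v, g v 5 = v 5 := fun v => by
    calc g v 5 = B (g v) (g u0) := by rw [hu, B_u0]
      _ = v 5 := by rw [hg.polar, B_u0]
  have hp : ∀ i, ∃ j, ∃ a : ZMod 2, g (P (pt i)) = P (pt j) + a • u0 := by
    intro i
    have hq : ∀ i, q (P (pt i)) = 0 ∧ P (pt i) ≠ 0 ∧ P (pt i) ≠ u0 := by decide +kernel
    obtain ⟨a1, a2, a3⟩ := hq i
    rcases pt_image (g (P (pt i))) (by rw [h5]; exact (co_P _ (ev_pt i)).2.2) (by rw [hg.quad, a1]) with e | e | e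
    · exact absurd (hg.inj (e.trans hg.map_zero.symm)) a2
    · exact absurd (hg.inj (e.trans hu.symm)) a3
    · exact e
  choose σf a ha using hp
  have hpd : ∀ i j, ∀ a : ZMod 2, P (pt i) = P (pt j) + a • u0 → i = j := by decide +kernel
  have hinj : Function.Injective σf := fun i j e => by
    refine hpd i j (a i + a j) (hg.inj ?_)
    rw [hg.add, hg.map_smul, hu, ha, ha, e, add_assoc, ← add_smul, add_left_comm, CharTwo.add_self_eq_zero,
      add_zero]
  let σ : Equiv.Perm (Fin 5) := Equiv.ofBijective σf (Finite.injective_iff_bijective.1 hinj)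
  refine ⟨σ, co (g y0), ev_co _, fun v => ?_⟩
  obtain ⟨hy, hB⟩ := y0_image (g y0) (by rw [h5]; decide) (by rw [hg.quad]; decide)
  have hpa : ∀ i, g (P (pt i)) = M σ (co (g y0)) (P (pt i)) := by
    intro i
    rw [M_pt σ (ev_co _), ha]
    show P (pt (σf i)) + a i • u0 = P (pt (σf i)) + co (g y0) (σf i) • u0
    have h0 : B y0 (P (pt i)) = 0 := by revert i; decide +kernel
    have h1 := hB (σf i) (a i)
    rw [← ha, hg.polar, h0] at h1
    rw [CharTwo.add_eq_zero.1 h1.symm]
  have hM : ∀ (c : ZMod 2) (x : V), M σ (co (g y0)) (c • x) = c • M σ (co (g y0)) x := fun c x => by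
    rcases two_cases c with rfl | rfl
    · have := M_add σ (co (g y0)) 0 0
      rw [add_zero, add_self_V] at this
      simp [this]
    · simp
  conv_lhs => rw [decompose v]
  conv_rhs => rw [decompose v]
  simp only [Fin.sum_univ_five, hg.add, hg.map_smul, M_add, hM, hpa, hu, M_u0, M_y0, ← hy]

theorem M_unique {σ τ : Equiv.Perm (Fin 5)} {φ ψ : W5} (hφ : Ev φ) (hψ : Ev ψ)
    (h : ∀ v, M σ φ v = M τ ψ v) : σ = τ ∧ φ = ψ := by
  have h1 : φ = ψ := by
    have e := congrArg co (h y0)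
    rw [(co_M hφ σ y0).1, (co_M hψ τ y0).1] at e
    simpa [show co y0 = 0 by decide, show y0 5 = 1 by decide] using e
  refine ⟨Equiv.ext fun i => pt_injective _ _ ?_, h1⟩
  have e := congrArg co (h (P (pt i)))
  rw [(co_M hφ σ _).1, (co_M hψ τ _).1, (co_P _ (ev_pt i)).1, (co_P _ (ev_pt i)).2.2,
    zero_smul, add_zero, zero_smul, add_zero, pt_perm, pt_perm] at e
  exact e

/-- Composition of normal forms. -/
theorem form_comp {g g' : V → V} (hg : Iso g) (hg' : Iso g') {σ τ : Equiv.Perm (Fin 5)} {φ ψ : W5}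
    (hφ : Ev φ) (hψ : Ev ψ) (h : ∀ v, g v = M σ φ v) (h' : ∀ v, g' v = M τ ψ v) :
    ∀ v, g (g' v) = M (σ * τ) ((fun i => ψ (σ⁻¹ i)) + φ) v := by
  have hu : (g ∘ g') u0 = u0 := by simp [h, h', M_u0]
  obtain ⟨ρ, χ, hχ, hf⟩ := exists_form (hg.comp hg') hu
  have e1 : χ = (fun i => ψ (σ⁻¹ i)) + φ := by
    have e := congrArg co (hf y0)
    rw [Function.comp_apply, h, h', (co_M hχ ρ y0).1, (co_M hφ σ _).1, (co_M hψ τ y0).1, (co_M hψ τ y0).2,
      show co y0 = 0 by decide, show y0 5 = 1 by decide] at e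
    simpa [Pi.add_def] using e.symm
  have e2 : ρ = σ * τ := by
    refine Equiv.ext fun i => pt_injective _ _ ?_
    have e := congrArg co (hf (P (pt i)))
    rw [Function.comp_apply, h, h', (co_M hχ ρ _).1, (co_M hφ σ _).1, (co_M hψ τ _).1, (co_M hψ τ _).2,
      (co_P _ (ev_pt i)).1, (co_P _ (ev_pt i)).2.2] at e
    simp only [zero_smul, add_zero, pt_perm] at e
    exact e.symm
  intro v
  rw [← e1, ← e2]
  exact hf v

/-! ### Facts about five-point vectors -/

/-- The standard non-singular parameter. -/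
def φ01 : W5 := ![1, 1, 0, 0, 0]

/-- The standard second parameter. -/
def m02 : W5 := ![1, 0, 1, 0, 0]

set_option maxRecDepth 100000 in
theorem qe_facts : ∀ e : W5, Ev e → dot e e = 0 ∧ q (P e) = qe e ∧
    (qe e = 0 → e = 0 ∨ ∃ i, e = pt i) := by decide +kernel

set_option maxRecDepth 100000 in
theorem case_singular : ∀ φ m : W5, Ev φ → Ev m → φ ≠ 0 → qe φ = 0 → qe m = 0 → dot m φ = 0 →
    m = 0 ∨ m = φ := by decide +kernel

set_option maxRecDepth 100000 in
theorem case_nonsingular : ∀ m : W5, Ev m → qe m = 1 → dot m φ01 = 1 →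
    ∃ τ : Equiv.Perm (Fin 5), Equiv.Perm.sign τ = 1 ∧ (∀ i, φ01 (τ⁻¹ i) = φ01 i) ∧
      ((∀ i, m (τ⁻¹ i) = m02 i) ∨ ∀ i, m (τ⁻¹ i) + φ01 i = m02 i) := by decide +kernel

set_option maxRecDepth 100000 in
theorem to_φ01 : ∀ φ : W5, Ev φ → qe φ = 1 →
    ∃ τ : Equiv.Perm (Fin 5), Equiv.Perm.sign τ = 1 ∧ ∀ i, φ (τ⁻¹ i) = φ01 i := by decide +kernel

set_option maxRecDepth 100000 in
theorem fixed_functional : ∀ m : W5, Ev m →
    (∀ τ : Equiv.Perm (Fin 5), Equiv.Perm.sign τ = 1 → (∀ i, φ01 (τ⁻¹ i) = φ01 i) → ∀ i, m (τ⁻¹ i) = m i) →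
      m = 0 ∨ m = φ01 := by decide +kernel

set_option maxRecDepth 100000 in
theorem ev_span : ∀ φ : W5, Ev φ → φ = 0 ∨ qe φ = 1 ∨ ∃ a b : W5, Ev a ∧ Ev b ∧ qe a = 1 ∧ qe b = 1 ∧ φ = a + b := by
  decide +kernel

set_option maxRecDepth 100000 in
theorem moves : ∀ i : Fin 5, ∃ τ : Equiv.Perm (Fin 5), Equiv.Perm.sign τ = 1 ∧ τ i ≠ i := by decide +kernel

set_option maxRecDepth 100000 in
theorem fixes_two : ∀ τ : Equiv.Perm (Fin 5), Equiv.Perm.sign τ = 1 → τ 3 = 3 → τ 4 = 4 → τ ^ 4 = 1 → τ = 1 := by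
  decide +kernel

set_option maxRecDepth 100000 in
set_option synthInstance.maxSize 4096 in
set_option synthInstance.maxHeartbeats 400000 in
/-- An involution in the stabiliser of `u0` with even permutation is a Siegel element at some singular point. -/
theorem involution_point : ∀ σ : Equiv.Perm (Fin 5), Equiv.Perm.sign σ = 1 → σ * σ = 1 → ∀ φ : W5, Ev φ →
    (∀ i, φ (σ⁻¹ i) = φ i) →
      ∃ f : Fin 5, ∃ a : ZMod 2, σ = 1 ∨ (M σ φ (P (pt f) + a • u0) = P (pt f) + a • u0 ∧
        ∀ x : V, B x (P (pt f) + a • u0) = 0 → M σ φ x + x = 0 ∨ M σ φ x + x = P (pt f) + a • u0) := by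
  decide +kernel

theorem exists_dual (f : W5 → ZMod 2) (hf : ∀ a b, Ev a → Ev b → f (a + b) = f a + f b) :
    ∃ m : W5, Ev m ∧ ∀ w, Ev w → f w = dot w m := by
  let d : Fin 5 → W5 := ![0, ![1, 1, 0, 0, 0], ![1, 0, 1, 0, 0], ![1, 0, 0, 1, 0], ![1, 0, 0, 0, 1]]
  have hd : ∀ i, Ev (d i) := by decide +kernel
  have hdw : ∀ w : W5, Ev w → ∀ a b c e : ZMod 2,
      w = w 1 • d 1 + w 2 • d 2 + w 3 • d 3 + w 4 • d 4 ∧
      dot w ![a + b + c + e, (a + b + c + e) + a, (a + b + c + e) + b, (a + b + c + e) + c,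
        (a + b + c + e) + e] = w 1 * a + w 2 * b + w 3 * c + w 4 * e := by decide +kernel
  have hev : ∀ a b c e : ZMod 2, Ev ![a + b + c + e, (a + b + c + e) + a, (a + b + c + e) + b,
      (a + b + c + e) + c, (a + b + c + e) + e] := by decide +kernel
  refine ⟨_, hev (f (d 1)) (f (d 2)) (f (d 3)) (f (d 4)), fun w hw => ?_⟩
  obtain ⟨h1, h2⟩ := hdw w hw (f (d 1)) (f (d 2)) (f (d 3)) (f (d 4))
  rw [h2]
  conv_lhs => rw [h1]
  have hs : ∀ (a : ZMod 2) (i : Fin 5), Ev (a • d i) ∧ f (a • d i) = a * f (d i) := by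
    intro a i
    rcases two_cases a with rfl | rfl
    · refine ⟨by simpa using ev_zero, ?_⟩
      have := hf 0 0 ev_zero ev_zero
      rw [add_zero] at this
      simp only [zero_smul, zero_mul]
      simpa using this
    · simp [hd]
  rw [hf _ _ (ev_add (ev_add (hs _ 1).1 (hs _ 2).1) (hs _ 3).1) (hs _ 4).1,
    hf _ _ (ev_add (hs _ 1).1 (hs _ 2).1) (hs _ 3).1, hf _ _ (hs _ 1).1 (hs _ 2).1,
    (hs _ 1).2, (hs _ 2).2, (hs _ 3).2, (hs _ 4).2]

end CfsgLib.Characterizations.SuzType
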