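import Cfsg.Agent.Lib.Characterizations.SuzType.Action

/-!
# Groups of Suzuki sporadic type: a conjugate of `Q` at a singular point and its Siegel elements
-/

set_option autoImplicit false
set_option linter.style.haveILetI false
set_option linter.unusedSectionVars false

namespace CfsgLib.Characterizations.SuzType

open CfsgLib.ThreeTransp.Extraspecial

variable {G : Type*} [Group G] [Finite G] {z : G} {Q : Subgroup G} {π : G → V}

set_option maxRecDepth 100000 in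
theorem perp_facts : ∀ v : V, v 5 = 0 → q v = qe (co v) ∧ v = P (co v) + v 4 • u0 ∧
    (co v = 0 → v = 0 ∨ v = u0) := by decide +kernel

set_option maxRecDepth 100000 in
theorem perp_polar : ∀ v w : V, v 5 = 0 → w 5 = 0 → B v w = dot (co v) (co w) := by decide +kernel

set_option maxRecDepth 100000 in
theorem dot_pt : ∀ i j : Fin 5, i ≠ j → dot (pt i) (pt j) = 1 := by decide +kernel

set_option maxRecDepth 100000 in
theorem M_one_perp : ∀ φ : W5, Ev φ → ∀ v : V, v 5 = 0 → M 1 φ v + v = dot (co v) φ • u0 := by decide +kernel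

set_option maxRecDepth 100000 in
theorem M_one_co : ∀ φ : W5, Ev φ → ∀ v : V, co (M 1 φ v + v) = v 5 • φ ∧
    (M 1 φ v + v) 5 = 0 ∧ (qe φ = 0 → q (M 1 φ v + v) = 0) := by decide +kernel

set_option maxRecDepth 100000 in
theorem y0_move : ∀ φ : W5, Ev φ → co (M 1 φ y0 + y0) = φ ∧ (M 1 φ y0 + y0) 5 = 0 ∧
    q (M 1 φ y0 + y0) = qe φ := by decide +kernel

set_option maxRecDepth 100000 in
set_option synthInstance.maxSize 4096 in
set_option synthInstance.maxHeartbeats 400000 in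
theorem dot_nondeg : ∀ a b : W5, Ev a → Ev b → (∀ w, Ev w → dot w a = dot w b) → a = b := by decide +kernel

set_option maxRecDepth 100000 in
theorem fix_pts : ∀ φ : W5, Ev φ → (∀ i, φ i = 0) → φ = 0 := by decide +kernel

theorem dot_perm (e f : W5) (σ : Equiv.Perm (Fin 5)) :
    dot (fun i => e (σ i)) (fun i => f (σ i)) = dot e f := by
  have key : ∀ a b : W5, dot a b = ∑ i, a i * b i := fun a b => by simp [dot, Fin.sum_univ_five]
  rw [key, key]
  exact Equiv.sum_comp σ fun i => e i * f i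

theorem co_u0 : co u0 = 0 := by decide

namespace Suz

/-- A conjugate `g Q g⁻¹` of `Q` centralising the involution `u` over `u0`, positioned symmetrically. -/
structure Pair (S : Suz z Q π) (u g : G) : Prop where
  u_mem : u ∈ Q
  π_u : π u = u0
  conj : g * z * g⁻¹ = u
  w_mem : g⁻¹ * z * g ∈ Q
  π_w : π (g⁻¹ * z * g) = u0

theorem exists_pair (S : Suz z Q π) : ∃ u g, S.Pair u g := by
  have hu := S.sec_mem u0
  have hπ := S.π_sec u0
  obtain ⟨g₀, hg₀⟩ := isConj_iff.1 (S.conj_of_singular hu (by rw [hπ]; decide) (by rw [hπ]; decide))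
  have huz : g₀ * z * g₀⁻¹ ≠ z := fun e => by
    rw [hg₀] at e
    have := S.π_z
    rw [← e, hπ] at this
    revert this
    decide
  have hw := S.symm (by rw [hg₀]; exact hu) huz
  set w := g₀⁻¹ * z * g₀ with hw'
  have hww : w * w = 1 := by
    rw [hw', show g₀⁻¹ * z * g₀ * (g₀⁻¹ * z * g₀) = g₀⁻¹ * (z * z) * g₀ by group, S.extra.z_sq]; group
  have hw0 : π w ≠ 0 := fun e => by
    rcases (S.π_ker w hw).1 e with e' | e'
    · exact S.extra.z_ne (by simpa [hw', mul_assoc, inv_mul_eq_iff_eq_mul] using e')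
    · exact huz (by
        calc g₀ * z * g₀⁻¹ = g₀ * (g₀⁻¹ * z * g₀) * g₀⁻¹ := by rw [← hw', e']
          _ = z := by group)
  obtain ⟨c, hc, hcw⟩ := S.transitive hw0 ((S.q_iff w hw).2 hww) (v := u0) (by decide) (by decide)
  rw [S.act_π hc hw] at hcw
  have e : (g₀ * c⁻¹)⁻¹ * z * (g₀ * c⁻¹) = c * w * c⁻¹ := by rw [hw']; group
  refine ⟨S.sec u0, g₀ * c⁻¹, hu, hπ, ?_, by rw [e]; exact S.norm c hc w hw, by rw [e, hcw]⟩
  rw [show g₀ * c⁻¹ * z * (g₀ * c⁻¹)⁻¹ = g₀ * (c⁻¹ * z * c) * g₀⁻¹ by group]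
  have : c⁻¹ * z * c = z := by rw [mul_assoc, ← hc, inv_mul_cancel_left]
  rw [this, hg₀]

/-- The elements `g Q g⁻¹ ∩ C(z)`. -/
def sie (_S : Suz z Q π) (g : G) : Subgroup G :=
  Subgroup.centralizer ({z} : Set G) ⊓ Q.map (MulAut.conj g).toMonoidHom

section

variable {S : Suz z Q π} {u g : G}

theorem mem_sie {e : G} : e ∈ S.sie g ↔ e * z = z * e ∧ g⁻¹ * e * g ∈ Q := by
  rw [sie, Subgroup.mem_inf, Subgroup.mem_centralizer_singleton_iff, mem_map_conj]

namespace Pair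

variable (p : S.Pair u g)
include p

theorem uu : u * u = 1 := by rw [← p.conj, conj_mul, S.extra.z_sq]; group

theorem u_ne : u ≠ 1 := fun e => S.extra.z_ne (by rw [← p.conj] at e; exact conj_eq_one_iff.1 e)

theorem u_ne_z : u ≠ z := fun e => by
  have h := p.π_u
  rw [e, S.π_z] at h
  revert h
  decide

theorem uz : u * z = z * u := S.mem_cz p.u_mem

theorem w_ne : g⁻¹ * z * g ≠ 1 ∧ g⁻¹ * z * g ≠ z := by
  constructor <;> intro e <;> have h := p.π_w <;> rw [e] at h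
  · rw [S.π_one] at h; revert h; decide
  · rw [S.π_z] at h; revert h; decide

/-- Elements of `g Q g⁻¹` centralise `u`. -/
theorem comm_u {x : G} (hx : g⁻¹ * x * g ∈ Q) : x * u = u * x := by
  have h := S.mem_cz hx
  calc x * u = g * (g⁻¹ * x * g * z) * g⁻¹ := by rw [← p.conj]; group
    _ = u * x := by rw [h, ← p.conj]; group

theorem z_sie : z ∈ S.sie g := mem_sie.2 ⟨rfl, p.w_mem⟩

theorem u_sie : u ∈ S.sie g := mem_sie.2 ⟨p.uz, by
  rw [← p.conj]; simpa [mul_assoc] using S.extra.z_mem⟩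

/-- Elements centralising `u` normalise `g Q g⁻¹`. -/
theorem norm_conj {c x : G} (hc : c * u = u * c) (hx : g⁻¹ * x * g ∈ Q) : g⁻¹ * (c * x * c⁻¹) * g ∈ Q :=
  centralizer_conj_le S.centralizer_le_normalizer g (by rwa [p.conj]) hx

/-- Elements of the stabiliser of `u0` can be corrected to centralise `u`. -/
theorem lift_fix {c : G} (hc : c * z = z * c) (hcu : S.act c u0 = u0) :
    ∃ c', c' * z = z * c' ∧ c' * u = u * c' ∧ ∀ v, S.act c' v = S.act c v := by
  rw [← p.π_u, S.act_π hc p.u_mem] at hcu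
  rcases S.π_eq p.u_mem (S.norm c hc u p.u_mem) hcu.symm with e | e
  · exact ⟨c, hc, mul_inv_eq_iff_eq_mul.1 e, fun v => rfl⟩
  · obtain ⟨k, hk, hku⟩ := S.extra.exists_conj_eq p.u_mem p.u_ne p.u_ne_z
    refine ⟨k * c, by rw [mul_assoc, hc, ← mul_assoc, S.mem_cz hk, mul_assoc], ?_,
      fun v => by rw [S.act_mul (S.mem_cz hk) hc, S.act_Q hk]⟩
    rw [← mul_inv_eq_iff_eq_mul]
    calc k * c * u * (k * c)⁻¹ = k * (c * u * c⁻¹) * k⁻¹ := by group
      _ = (k * u * k⁻¹) * (k * z * k⁻¹) := by rw [e]; group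
      _ = u := by rw [hku, S.mem_cz hk, mul_inv_cancel_right, mul_assoc, S.extra.z_sq, mul_one]

theorem exists_lift {τ : Equiv.Perm (Fin 5)} (hτ : Equiv.Perm.sign τ = 1) :
    ∃ c, c * z = z * c ∧ c * u = u * c ∧ ∃ ψ, Ev ψ ∧ ∀ v, S.act c v = M τ ψ v := by
  obtain ⟨c, hc, ψ, hψ, hf⟩ := S.exists_even_lift hτ
  obtain ⟨c', h1, h2, h3⟩ := p.lift_fix hc (by rw [hf, M_u0])
  exact ⟨c', h1, h2, ψ, hψ, fun v => (h3 v).trans (hf v)⟩

theorem π_of_comm {x : G} (hx : x ∈ Q) (h : x * u = u * x) : π x 5 = 0 := by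
  have h' := (S.comm_iff hx p.u_mem).1 h
  rwa [p.π_u, B_u0] at h'

theorem comm_of_π {x : G} (hx : x ∈ Q) (h : π x 5 = 0) : x * u = u * x :=
  (S.comm_iff hx p.u_mem).2 (by rw [p.π_u, B_u0, h])

/-- `Q ∩ g Q g⁻¹` lies over `⟨u0⟩`. -/
theorem meet {x : G} (hx : x ∈ Q) (hxg : g⁻¹ * x * g ∈ Q) : π x = 0 ∨ π x = u0 := by
  have key : ∀ a b : G, a ∈ Q → g⁻¹ * a * g ∈ Q → b ∈ Q → g⁻¹ * b * g ∈ Q → B (π a) (π b) = 0 := by
    intro a b ha hag hb hbg
    refine (S.comm_iff ha hb).1 ?_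
    rcases S.extra.conj_cases hb ha with e | e
    · exact mul_inv_eq_iff_eq_mul.1 e
    · exfalso
      have e2 : g⁻¹ * a * g * (g⁻¹ * b * g) * (g⁻¹ * a * g)⁻¹ = g⁻¹ * b * g * (g⁻¹ * z * g) := by
        rw [show g⁻¹ * a * g * (g⁻¹ * b * g) * (g⁻¹ * a * g)⁻¹ = g⁻¹ * (a * b * a⁻¹) * g by group, e]
        group
      rcases S.extra.conj_cases hbg hag with e' | e' <;> rw [e'] at e2
      · exact p.w_ne.1 (mul_eq_left.1 e2.symm)
      · exact p.w_ne.2 (mul_left_cancel e2).symm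
  have hq : q (π x) = 0 := by
    refine (S.q_iff x hx).2 ?_
    rcases S.extra.sq_cases hx with e | e
    · exact e
    · exfalso
      have e2 : g⁻¹ * x * g * (g⁻¹ * x * g) = g⁻¹ * z * g := by rw [← e]; group
      rcases S.extra.sq_cases hxg with e' | e' <;> rw [e'] at e2
      · exact p.w_ne.1 e2.symm
      · exact p.w_ne.2 e2.symm
  have h5 := p.π_of_comm hx (p.comm_u hxg)
  obtain ⟨hqe, -, h0⟩ := perp_facts _ h5
  rcases (qe_facts _ (ev_co _)).2.2 (hqe.symm.trans hq) with e | ⟨i, e⟩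
  · exact h0 e
  exfalso
  obtain ⟨τ, hτ, hi⟩ := moves i
  obtain ⟨c, hc, hcu, ψ, hψ, hf⟩ := p.exists_lift hτ
  have h1 := key x (c * x * c⁻¹) hx hxg (S.norm c hc x hx) (p.norm_conj hcu hxg)
  rw [← S.act_π hc hx, hf] at h1
  obtain ⟨hcoM, hM5⟩ := co_M hψ τ (π x)
  rw [perp_polar _ _ h5 (hM5.trans h5), hcoM, h5, zero_smul, add_zero, e, pt_perm, dot_pt i _ (Ne.symm hi)] at h1
  exact one_ne_zero h1

theorem meet_cases {x : G} (hx : x ∈ Q) (hxg : g⁻¹ * x * g ∈ Q) : x = 1 ∨ x = z ∨ x = u ∨ x = u * z := by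
  rcases p.meet hx hxg with e | e
  · exact ((S.π_ker x hx).1 e).elim Or.inl fun e => Or.inr (Or.inl e)
  · exact (S.π_eq p.u_mem hx (p.π_u.trans e.symm)).elim (fun e => Or.inr (Or.inr (Or.inl e)))
      fun e => Or.inr (Or.inr (Or.inr e))

theorem mem_of_over {x : G} (hx : x ∈ Q) (h : π x = 0 ∨ π x = u0) : x ∈ S.sie g := by
  rcases h with e | e
  · rcases (S.π_ker x hx).1 e with rfl | rfl
    · exact one_mem _
    · exact p.z_sie
  · rcases S.π_eq p.u_mem hx (p.π_u.trans e.symm) with rfl | rfl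
    · exact p.u_sie
    · exact mul_mem p.u_sie p.z_sie

theorem sie_comm {e : G} (he : e ∈ S.sie g) : e * z = z * e ∧ e * u = u * e :=
  ⟨(mem_sie.1 he).1, p.comm_u (mem_sie.1 he).2⟩

/-- Elements of `g Q g⁻¹ ∩ C(z)` act as Siegel elements at `u0`. -/
theorem sie_form {e : G} (he : e ∈ S.sie g) : ∃ φ, Ev φ ∧ ∀ v, S.act e v = M 1 φ v := by
  obtain ⟨hez, heu⟩ := p.sie_comm he
  have hfix : S.act e u0 = u0 := by
    rw [← p.π_u, S.act_π hez p.u_mem, heu, mul_inv_cancel_right]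
  obtain ⟨σ, φ, hφ, hf⟩ := exists_form (S.act_iso hez) hfix
  suffices σ = 1 by subst this; exact ⟨φ, hφ, hf⟩
  refine Equiv.ext fun i => pt_injective _ _ ?_
  obtain ⟨hco, h4, h5⟩ := co_P _ (ev_pt i)
  obtain ⟨x, hx, hπx⟩ := S.π_surj (P (pt i))
  have hxu : x * u = u * x := p.comm_of_π hx (by rw [hπx, h5])
  have hr : g⁻¹ * (e * x * e⁻¹ * x⁻¹) * g ∈ Q := by
    have h := Q.mul_mem (mem_sie.1 he).2 (p.norm_conj hxu (mem_sie.1 ((S.sie g).inv_mem he)).2)
    rwa [show g⁻¹ * e * g * (g⁻¹ * (x * e⁻¹ * x⁻¹) * g) = g⁻¹ * (e * x * e⁻¹ * x⁻¹) * g by group] at h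
  have hm := p.meet (mul_mem (S.norm e hez x hx) (inv_mem hx)) hr
  rw [S.π_mul _ (S.norm e hez x hx) _ (inv_mem hx), S.π_inv hx, ← S.act_π hez hx, hπx, hf] at hm
  have h0 : co (M σ φ (P (pt i)) + P (pt i)) = 0 := by
    rcases hm with e | e <;> rw [e]
    exacts [co_zero, co_u0]
  rw [co_add, (co_M hφ σ _).1, hco, h5, zero_smul, add_zero, pt_perm] at h0
  calc pt (σ i) = pt (σ i) + (pt i + pt i) := by rw [add_self_W, add_zero]
    _ = pt i := by rw [← add_assoc, h0, zero_add]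

theorem sie_mem_Q {e : G} (he : e ∈ S.sie g) (h : ∀ v, S.act e v = M 1 0 v) : e ∈ Q :=
  S.mem_of_act_id (p.sie_comm he).1 fun v => (h v).trans (evM_zero v)

theorem sie_mul_form {e e' : G} (he : e ∈ S.sie g) (he' : e' ∈ S.sie g) {φ φ' : W5} (hφ : Ev φ) (hφ' : Ev φ')
    (hf : ∀ v, S.act e v = M 1 φ v) (hf' : ∀ v, S.act e' v = M 1 φ' v) :
    ∀ v, S.act (e * e') v = M 1 (φ + φ') v := by
  intro v
  rw [S.act_mul (p.sie_comm he).1 (p.sie_comm he').1,
    form_comp (S.act_iso (p.sie_comm he).1) (S.act_iso (p.sie_comm he').1) hφ hφ' hf hf' v]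
  simp [add_comm]

omit p in
theorem act_one_form (v : V) : S.act 1 v = M 1 0 v := (S.act_one v).trans (evM_zero v).symm

theorem sie_inv_form {e : G} (he : e ∈ S.sie g) {φ : W5} (hφ : Ev φ)
    (hf : ∀ v, S.act e v = M 1 φ v) : ∀ v, S.act e⁻¹ v = M 1 φ v := by
  obtain ⟨ψ, hψ, hψf⟩ := p.sie_form (inv_mem he)
  have h := p.sie_mul_form he (inv_mem he) hφ hψ hf hψf
  rw [mul_inv_cancel] at h
  have h0 := (M_unique (σ := 1) (τ := 1) ev_zero (ev_add hφ hψ) fun v => (act_one_form v).symm.trans (h v)).2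
  have : ψ = φ := by
    calc ψ = (φ + φ) + ψ := by rw [add_self_W, zero_add]
      _ = φ := by rw [add_assoc, ← h0, add_zero]
  rwa [this] at hψf

/-- Every Siegel parameter is realised. -/
theorem exists_sie {φ : W5} (hφ : Ev φ) : ∃ e ∈ S.sie g, ∀ v, S.act e v = M 1 φ v := by
  classical
  choose Φ hΦ hΦf using fun e : ↥(S.sie g) => p.sie_form e.2
  have hmul : ∀ a b : ↥(S.sie g), Φ (a * b) = Φ a + Φ b := fun a b =>
    (M_unique (σ := 1) (τ := 1) (hΦ _) (ev_add (hΦ a) (hΦ b)) fun v =>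
      (hΦf (a * b) v).symm.trans (p.sie_mul_form a.2 b.2 (hΦ a) (hΦ b) (hΦf a) (hΦf b) v)).2
  let f : ↥(S.sie g) →* Multiplicative ↥evSub :=
    MonoidHom.mk' (fun e => Multiplicative.ofAdd ⟨Φ e, hΦ e⟩) fun a b =>
      congrArg Multiplicative.ofAdd (Subtype.ext (hmul a b))
  have hker : Nat.card f.ker ≤ 4 := by
    let T : Set G := {1, z, u, u * z}
    have hmem : ∀ e : f.ker, ((e : ↥(S.sie g)) : G) ∈ T := fun e => by
      have h0 : Φ (e : ↥(S.sie g)) = 0 :=
        congrArg Subtype.val (Multiplicative.ofAdd.injective (MonoidHom.mem_ker.1 e.2))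
      exact p.meet_cases (p.sie_mem_Q e.1.2 fun v => by rw [hΦf, h0]) (mem_sie.1 e.1.2).2
    refine (Nat.card_le_card_of_injective (fun e => (⟨_, hmem e⟩ : T))
      fun a b hab => Subtype.ext (Subtype.ext (congrArg (fun t : T => (t : G)) hab))).trans ?_
    rw [Nat.card_coe_set_eq]
    have h1 := Set.ncard_insert_le (1 : G) {z, u, u * z}
    have h2 := Set.ncard_insert_le z ({u, u * z} : Set G)
    have h3 := Set.ncard_insert_le u ({u * z} : Set G)
    rw [Set.ncard_singleton] at h3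
    show ({1, z, u, u * z} : Set G).ncard ≤ 4
    omega
  -- `|g Q g⁻¹ ∩ C(z)| = 64`
  let Qw : Subgroup G := Q ⊓ Subgroup.centralizer ({g⁻¹ * z * g} : Set G)
  have hQw : ∀ x, x ∈ Qw ↔ x ∈ Q ∧ π x 5 = 0 := by
    intro x
    simp only [Qw, Subgroup.mem_inf, Subgroup.mem_centralizer_singleton_iff]
    refine and_congr_right fun hx => ?_
    rw [S.comm_iff hx p.w_mem, p.π_w, B_u0]
  have h64 : 64 ≤ Nat.card ↥(S.sie g) := by
    have hcard : Nat.card ↥Qw = 64 := by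
      let e : ↥Qw →* Multiplicative V := MonoidHom.mk' (fun x => Multiplicative.ofAdd (π x)) fun x y => by
        show Multiplicative.ofAdd (π ((x : G) * y)) = _
        rw [S.π_mul x ((hQw _).1 x.2).1 y ((hQw _).1 y.2).1]; rfl
      have hk : (e.ker : Set ↥Qw) =
          {1, ⟨z, (hQw z).2 ⟨S.extra.z_mem, by rw [S.π_z]; rfl⟩⟩} := by
        ext x
        rw [SetLike.mem_coe, MonoidHom.mem_ker]
        refine (show e x = 1 ↔ π x = 0 from Iff.rfl).trans ((S.π_ker x ((hQw _).1 x.2).1).trans ?_)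
        constructor
        · rintro (e' | e')
          · exact Or.inl (Subtype.ext e')
          · exact Or.inr (Subtype.ext e')
        · rintro (e' | e')
          · exact Or.inl (congrArg Subtype.val e')
          · exact Or.inr (congrArg Subtype.val e')
      have hr : (e.range : Set (Multiplicative V)) =
          Multiplicative.ofAdd '' ↑(Finset.univ.filter fun v : V => v 5 = 0) := by
        ext v
        simp only [MonoidHom.coe_range, Set.mem_range, Set.mem_image, Finset.coe_filter, Finset.mem_univ, true_and,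
          Set.mem_setOf_eq]
        constructor
        · rintro ⟨x, rfl⟩; exact ⟨_, ((hQw _).1 x.2).2, rfl⟩
        · rintro ⟨w, hw, rfl⟩
          obtain ⟨x, hx, hv⟩ := S.π_surj w
          exact ⟨⟨x, (hQw x).2 ⟨hx, by rw [hv]; exact hw⟩⟩, congrArg Multiplicative.ofAdd hv⟩
      have h := e.ker.card_mul_index
      rw [Subgroup.index_ker, ← SetLike.coe_sort_coe e.ker, ← SetLike.coe_sort_coe e.range, Nat.card_coe_set_eq,
        Nat.card_coe_set_eq, hk, Set.ncard_pair (fun e => S.extra.z_ne (congrArg Subtype.val e).symm), hr,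
        Set.ncard_image_of_injective _ Multiplicative.ofAdd.injective, Set.ncard_coe_finset, perp_count] at h
      omega
    rw [← hcard]
    refine Nat.card_le_card_of_injective
      (fun x : ↥Qw => (⟨g * x * g⁻¹, mem_sie.2 ⟨?_, by simpa [mul_assoc] using x.2.1⟩⟩ : ↥(S.sie g))) ?_
    · have := Subgroup.mem_centralizer_singleton_iff.1 x.2.2
      calc g * x * g⁻¹ * z = g * ((x : G) * (g⁻¹ * z * g)) * g⁻¹ := by group
        _ = z * (g * x * g⁻¹) := by rw [this]; group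
    · intro a b hab
      exact Subtype.ext (by simpa using congrArg (fun e : ↥(S.sie g) => (e : G)) hab)
  have h := f.ker.card_mul_index
  rw [Subgroup.index_ker] at h
  have hev : Nat.card (Multiplicative ↥evSub) = 16 := by rw [Nat.card_congr Multiplicative.toAdd, card_evSub]
  have hrange : Nat.card f.range = 16 := by
    refine le_antisymm (hev ▸ Subgroup.card_le_card_group f.range) ?_
    by_contra hlt
    have : Nat.card f.ker * Nat.card f.range ≤ 4 * 15 := Nat.mul_le_mul hker (by omega)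
    omega
  have htop : f.range = ⊤ := Subgroup.eq_top_of_card_eq _ (hrange.trans hev.symm)
  obtain ⟨e, he⟩ : Multiplicative.ofAdd (⟨φ, hφ⟩ : ↥evSub) ∈ f.range := by rw [htop]; exact Subgroup.mem_top _
  refine ⟨e, e.2, fun v => ?_⟩
  rw [hΦf, show Φ e = φ from congrArg Subtype.val (Multiplicative.ofAdd.injective he)]

/-- Elements fixing `u0` act with even permutation. -/
theorem form_even {c : G} (hc : c * z = z * c) {τ : Equiv.Perm (Fin 5)} {ψ : W5} (hψ : Ev ψ)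
    (hf : ∀ v, S.act c v = M τ ψ v) : Equiv.Perm.sign τ = 1 := by
  have hid : Iso (id : V → V) := ⟨fun _ _ => rfl, fun _ => rfl, Function.injective_id⟩
  obtain ⟨σ, φ, hd⟩ := S.exists_data (u := u0) hid rfl
  have hk := (hd.card_ker S hid).2 fun χ hχ => by
    obtain ⟨e, he, hef⟩ := p.exists_sie hχ
    have hmem : e ∈ S.stab u0 := ⟨(p.sie_comm he).1, by rw [hef, M_u0]⟩
    obtain ⟨h1, h2⟩ := hd.form_eq S ⟨e, hmem⟩ hχ hef
    exact ⟨⟨e, hmem⟩, MonoidHom.mem_ker.2 h1, h2⟩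
  have h := σ.ker.card_mul_index
  rw [Subgroup.index_ker, (S.orbit_eq (u := u0) (by decide) (by decide)).2, hk] at h
  have hi := σ.range.card_mul_index
  rw [Nat.card_perm, Nat.card_fin, show Nat.factorial 5 = 120 from rfl] at hi
  have hA := Equiv.Perm.eq_alternatingGroup_of_index_eq_two (G := σ.range) (by
    have : Nat.card σ.range = 60 := by omega
    rw [this] at hi
    omega)
  obtain ⟨h1, -⟩ := hd.form_eq S ⟨c, hc, by rw [hf, M_u0]⟩ hψ hf
  rw [← h1]
  exact Equiv.Perm.mem_alternatingGroup.1 (hA ▸ ⟨_, rfl⟩)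

/-! ### The pairing -/

/-- The power of `u`. -/
theorem up_comm {x : G} (hx : x * u = u * x) (a : ZMod 2) : x * zp u a = zp u a * x := by
  rcases two_cases a with rfl | rfl
  · simp [zp_zero]
  · rwa [zp_one]

theorem up_mem (a : ZMod 2) : zp u a ∈ Q := by
  rcases two_cases a with rfl | rfl
  · rw [zp_zero]; exact one_mem Q
  · rw [zp_one]; exact p.u_mem

theorem up_π (a : ZMod 2) : π (zp u a) = a • u0 := by
  rcases two_cases a with rfl | rfl
  · rw [zp_zero, S.π_one, zero_smul]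
  · rw [zp_one, p.π_u, one_smul]

theorem up_add (a b : ZMod 2) : zp u (a + b) = zp u a * zp u b := by
  rcases two_cases a with rfl | rfl <;> rcases two_cases b with rfl | rfl <;>
    simp [zp_zero, zp_one, CharTwo.add_self_eq_zero, p.uu]

/-- `s_{a,b} = z^a u^b`. -/
theorem mix_comm {x : G} (hxz : x * z = z * x) (hxu : x * u = u * x) (a b : ZMod 2) :
    x * (zp z a * zp u b) = zp z a * zp u b * x := by
  rw [← mul_assoc, S.zp_comm a hxz, mul_assoc, p.up_comm hxu, ← mul_assoc]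

theorem mix_inj {a a' b b' : ZMod 2} (h : zp z a * zp u b = zp z a' * zp u b') : a = a' ∧ b = b' := by
  have hb : b = b' := by
    have e := congrArg π h
    rw [S.π_mul _ (S.zp_mem a) _ (p.up_mem b), S.π_mul _ (S.zp_mem a') _ (p.up_mem b'), S.π_zp, S.π_zp,
      zero_add, zero_add, p.up_π, p.up_π] at e
    simpa [u0] using congrFun e 4
  subst hb
  exact ⟨S.zp_inj (mul_right_cancel h), rfl⟩

/-- The commutator of a Siegel element with an element of `C_Q(u)`. -/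
theorem comm_val {e : G} (he : e ∈ S.sie g) {φ : W5} (hφ : Ev φ) (hf : ∀ v, S.act e v = M 1 φ v) {x : G}
    (hx : x ∈ Q) (h5 : π x 5 = 0) :
    ∃ a, e * x * e⁻¹ = x * (zp z a * zp u (dot (co (π x)) φ)) := by
  obtain ⟨hez, -⟩ := p.sie_comm he
  have hm := S.norm e hez x hx
  have hπ : π (x⁻¹ * (e * x * e⁻¹)) = dot (co (π x)) φ • u0 := by
    rw [S.π_mul _ (inv_mem hx) _ hm, S.π_inv hx, ← S.act_π hez hx, hf, add_comm, M_one_perp φ hφ _ h5]
  have hmem : x⁻¹ * (e * x * e⁻¹) ∈ Q := mul_mem (inv_mem hx) hm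
  rcases S.π_eq (p.up_mem (dot (co (π x)) φ)) hmem (by rw [p.up_π, hπ]) with e' | e'
  · exact ⟨0, by rw [zp_zero, one_mul, ← e', mul_inv_cancel_left]⟩
  · exact ⟨1, by rw [zp_one, S.extra.z_comm (p.up_mem _), ← e', mul_inv_cancel_left]⟩

theorem comm_left {e e' x : G} (he : e ∈ S.sie g) {a b a' b' : ZMod 2}
    (h : e * x * e⁻¹ = x * (zp z a * zp u b)) (h' : e' * x * e'⁻¹ = x * (zp z a' * zp u b')) :
    e * e' * x * (e * e')⁻¹ = x * (zp z (a + a') * zp u (b + b')) := by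
  obtain ⟨hez, heu⟩ := p.sie_comm he
  rw [show e * e' * x * (e * e')⁻¹ = e * (e' * x * e'⁻¹) * e⁻¹ by group, h', ← conj_mul, h,
    p.mix_comm hez heu, mul_inv_cancel_right, S.zp_add, p.up_add, mul_assoc]
  congr 1
  have hc : zp u b * zp z a' = zp z a' * zp u b := S.zp_comm a' (S.mem_cz (p.up_mem b))
  calc zp z a * zp u b * (zp z a' * zp u b') = zp z a * (zp u b * zp z a') * zp u b' := by group
    _ = _ := by rw [hc]; group

theorem comm_right {e x x' : G} (hx' : x' ∈ Q) (h5 : π x' 5 = 0) {a b a' b' : ZMod 2}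
    (h : e * x * e⁻¹ = x * (zp z a * zp u b)) (h' : e * x' * e⁻¹ = x' * (zp z a' * zp u b')) :
    e * (x * x') * e⁻¹ = x * x' * (zp z (a + a') * zp u (b + b')) := by
  have hc : zp u b * zp z a' = zp z a' * zp u b := S.zp_comm a' (S.mem_cz (p.up_mem b))
  rw [← conj_mul, h, h', S.zp_add, p.up_add]
  calc x * (zp z a * zp u b) * (x' * (zp z a' * zp u b'))
      = x * (zp z a * zp u b * x') * (zp z a' * zp u b') := by group
    _ = x * (x' * (zp z a * zp u b)) * (zp z a' * zp u b') := by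
        rw [p.mix_comm (S.mem_cz hx') (p.comm_of_π hx' h5)]
    _ = x * x' * (zp z a * (zp u b * zp z a') * zp u b') := by group
    _ = _ := by rw [hc]; group

theorem exists_Z : ∃ Z : W5 → W5 → ZMod 2, ∀ φ e x, Ev φ → e ∈ S.sie g → (∀ v, S.act e v = M 1 φ v) →
    x ∈ Q → π x 5 = 0 → e * x * e⁻¹ = x * (zp z (Z φ (co (π x))) * zp u (dot (co (π x)) φ)) := by
  classical
  -- over `⟨u0⟩` everything commutes
  have hsmall : ∀ d, d ∈ Q → (π d = 0 ∨ π d = u0) → ∀ e, e * z = z * e → e * u = u * e → e * d = d * e := by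
    intro d hd h e hez heu
    rcases h with h | h
    · rcases (S.π_ker d hd).1 h with rfl | rfl
      · simp
      · exact hez
    · rcases S.π_eq p.u_mem hd (p.π_u.trans h.symm) with rfl | rfl
      · exact heu
      · exact (Commute.mul_right heu hez).eq
  have indep : ∀ φ e e' x x', Ev φ → e ∈ S.sie g → e' ∈ S.sie g → (∀ v, S.act e v = M 1 φ v) →
      (∀ v, S.act e' v = M 1 φ v) → x ∈ Q → x' ∈ Q → π x 5 = 0 → π x' 5 = 0 → co (π x) = co (π x') →
      ∀ a a', e * x * e⁻¹ = x * (zp z a * zp u (dot (co (π x)) φ)) →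
        e' * x' * e'⁻¹ = x' * (zp z a' * zp u (dot (co (π x')) φ)) → a = a' := by
    intro φ e e' x x' hφ he he' hf hf' hx hx' h5 h5' hco a a' h h'
    have hd : e⁻¹ * e' ∈ S.sie g := mul_mem (inv_mem he) he'
    have hdQ : e⁻¹ * e' ∈ Q := p.sie_mem_Q hd fun v => by
      rw [p.sie_mul_form (inv_mem he) he' hφ hφ (p.sie_inv_form he hφ hf) hf' v, add_self_W]
    have hxd := hsmall _ hdQ (p.meet hdQ (mem_sie.1 hd).2) x (S.mem_cz hx) (p.comm_of_π hx h5)
    have hex : e' * x * e'⁻¹ = x * (zp z a * zp u (dot (co (π x)) φ)) := by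
      rw [← h]
      calc e' * x * e'⁻¹ = e * ((e⁻¹ * e') * x) * (e⁻¹ * e')⁻¹ * e⁻¹ := by group
        _ = e * (x * (e⁻¹ * e')) * (e⁻¹ * e')⁻¹ * e⁻¹ := by rw [hxd]
        _ = e * x * e⁻¹ := by group
    set d := x⁻¹ * x' with hddef
    have hdQ' : d ∈ Q := mul_mem (inv_mem hx) hx'
    have hdsum : π d = π x + π x' := by rw [hddef, S.π_mul _ (inv_mem hx) _ hx', S.π_inv hx]
    have hd5 : π d 5 = 0 := by rw [hdsum, Pi.add_apply, h5, h5', add_zero]
    have hdco : co (π d) = 0 := by rw [hdsum, co_add, hco, add_self_W]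
    have hed : e' * d * e'⁻¹ = d * (zp z 0 * zp u 0) := by
      rw [zp_zero, zp_zero, one_mul, mul_one,
        hsmall d hdQ' ((perp_facts _ hd5).2.2 hdco) e' (p.sie_comm he').1 (p.sie_comm he').2, mul_inv_cancel_right]
    have hh := p.comm_right hdQ' hd5 hex hed
    rw [hddef, mul_inv_cancel_left, add_zero, add_zero, hco] at hh
    exact (p.mix_inj (mul_left_cancel (hh.symm.trans h'))).1
  let Z : W5 → W5 → ZMod 2 := fun φ m => if h : ∃ a, ∃ e x, Ev φ ∧ e ∈ S.sie g ∧ (∀ v, S.act e v = M 1 φ v) ∧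
      x ∈ Q ∧ π x 5 = 0 ∧ co (π x) = m ∧ e * x * e⁻¹ = x * (zp z a * zp u (dot (co (π x)) φ))
    then h.choose else 0
  refine ⟨Z, fun φ e x hφ he hf hx h5 => ?_⟩
  obtain ⟨a, ha⟩ := p.comm_val he hφ hf hx h5
  have hex : ∃ a, ∃ e' x', Ev φ ∧ e' ∈ S.sie g ∧ (∀ v, S.act e' v = M 1 φ v) ∧
      x' ∈ Q ∧ π x' 5 = 0 ∧ co (π x') = co (π x) ∧
      e' * x' * e'⁻¹ = x' * (zp z a * zp u (dot (co (π x')) φ)) := ⟨a, e, x, hφ, he, hf, hx, h5, rfl, ha⟩
  obtain ⟨e', x', -, he', hf', hx', h5', hco, h'⟩ := hex.choose_spec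
  have hZ : Z φ (co (π x)) = hex.choose := dif_pos hex
  rw [hZ, indep φ e' e x' x hφ he' he hf' hf hx' hx h5' h5 hco _ _ h' ha]
  exact ha

theorem pair_formula {e : G} (he : e ∈ S.sie g) {φ : W5} (hφ : Ev φ) (hf : ∀ v, S.act e v = M 1 φ v) {x : G}
    (hx : x ∈ Q) (h5 : π x 5 = 0) :
    e * x * e⁻¹ = x * (zp z (dot (co (π x)) φ) * zp u (dot (co (π x)) φ)) := by
  classical
  obtain ⟨Z, hZ⟩ := p.exists_Z
  have rep : ∀ m, Ev m → ∃ x ∈ Q, π x 5 = 0 ∧ co (π x) = m := by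
    intro m hm
    obtain ⟨x, hx, hv⟩ := S.π_surj (P m)
    obtain ⟨h1, -, h3⟩ := co_P m hm
    exact ⟨x, hx, by rw [hv, h3], by rw [hv, h1]⟩
  have addl : ∀ φ φ' m, Ev φ → Ev φ' → Ev m → Z (φ + φ') m = Z φ m + Z φ' m := by
    intro φ φ' m hφ hφ' hm
    obtain ⟨e, he, hf⟩ := p.exists_sie hφ
    obtain ⟨e', he', hf'⟩ := p.exists_sie hφ'
    obtain ⟨x, hx, h5, rfl⟩ := rep m hm
    have h := p.comm_left he (hZ φ e x hφ he hf hx h5) (hZ φ' e' x hφ' he' hf' hx h5)
    rw [hZ (φ + φ') (e * e') x (ev_add hφ hφ') (mul_mem he he') (p.sie_mul_form he he' hφ hφ' hf hf') hx h5] at h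
    exact (p.mix_inj (mul_left_cancel h)).1
  have addr : ∀ φ m m', Ev φ → Ev m → Ev m' → Z φ (m + m') = Z φ m + Z φ m' := by
    intro φ m m' hφ hm hm'
    obtain ⟨e, he, hf⟩ := p.exists_sie hφ
    obtain ⟨x, hx, h5, rfl⟩ := rep m hm
    obtain ⟨x', hx', h5', rfl⟩ := rep m' hm'
    have hxx : π (x * x') 5 = 0 := by rw [S.π_mul x hx x' hx', Pi.add_apply, h5, h5', add_zero]
    have h := p.comm_right hx' h5' (hZ φ e x hφ he hf hx h5) (hZ φ e x' hφ he hf hx' h5')
    rw [hZ φ e (x * x') hφ he hf (mul_mem hx hx') hxx] at h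
    have := (p.mix_inj (mul_left_cancel h)).1
    rwa [S.π_mul x hx x' hx', co_add] at this
  have inv : ∀ (τ : Equiv.Perm (Fin 5)) φ m, Equiv.Perm.sign τ = 1 → Ev φ → Ev m →
      Z (fun i => φ (τ⁻¹ i)) (fun i => m (τ⁻¹ i)) = Z φ m := by
    intro τ φ m hτ hφ hm
    obtain ⟨c, hc, hcu, ψ, hψ, hcf⟩ := p.exists_lift hτ
    obtain ⟨e, he, hf⟩ := p.exists_sie hφ
    obtain ⟨x, hx, h5, rfl⟩ := rep m hm
    have he' : c * e * c⁻¹ ∈ S.sie g := by
      obtain ⟨h1, h2⟩ := mem_sie.1 he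
      refine mem_sie.2 ⟨?_, p.norm_conj hcu h2⟩
      exact ((Commute.mul_left hc h1).mul_left (Commute.inv_left hc)).eq
    obtain ⟨χ, hχ, hχf⟩ := p.sie_form he'
    have hez := (p.sie_comm he).1
    have he'z := (p.sie_comm he').1
    have h1 := form_comp (S.act_iso he'z) (S.act_iso hc) hχ hψ hχf hcf
    have h2 := form_comp (S.act_iso hc) (S.act_iso hez) hψ hφ hcf hf
    have h3 := (M_unique (ev_add (ev_perm hψ _) hχ) (ev_add (ev_perm hφ _) hψ) fun v => by
      rw [← h1, ← h2, ← S.act_mul he'z hc, ← S.act_mul hc hez, inv_mul_cancel_right]).2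
    have hχe : χ = fun i => φ (τ⁻¹ i) := by
      have h3' : ψ + χ = (fun i => φ (τ⁻¹ i)) + ψ := by simpa using h3
      rw [add_comm (fun i => φ (τ⁻¹ i))] at h3'
      exact add_left_cancel h3'
    subst hχe
    have hx' : c * x * c⁻¹ ∈ Q := S.norm c hc x hx
    have hπ' : π (c * x * c⁻¹) = M τ ψ (π x) := by rw [← S.act_π hc hx, hcf]
    have h5' : π (c * x * c⁻¹) 5 = 0 := by rw [hπ', (co_M hψ τ _).2, h5]
    have hco' : co (π (c * x * c⁻¹)) = fun i => co (π x) (τ⁻¹ i) := by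
      rw [hπ', (co_M hψ τ _).1, h5, zero_smul, add_zero]
    have h := hZ _ _ _ hχ he' hχf hx' h5'
    rw [hco', dot_perm (co (π x)) φ τ⁻¹,
      show c * e * c⁻¹ * (c * x * c⁻¹) * (c * e * c⁻¹)⁻¹ = c * (e * x * e⁻¹) * c⁻¹ by group,
      hZ φ e x hφ he hf hx h5, ← conj_mul, p.mix_comm hc hcu, mul_inv_cancel_right] at h
    exact (p.mix_inj (mul_left_cancel h)).1.symm
  obtain ⟨m₀, hm₀, hd⟩ := exists_dual (Z φ01) fun a b ha hb => addr φ01 a b (by decide) ha hb
  have hm₀' : m₀ = 0 ∨ m₀ = φ01 := by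
    refine fixed_functional m₀ hm₀ fun τ hτ hfix i => ?_
    have e : (fun i => m₀ (τ i)) = m₀ := by
      refine dot_nondeg _ _ (ev_perm hm₀ τ) hm₀ fun w hw => ?_
      rw [← hd w hw, ← inv τ φ01 w hτ (by decide) hw, show (fun i => φ01 (τ⁻¹ i)) = φ01 from funext hfix,
        hd _ (ev_perm hw _), ← dot_perm (fun i => w (τ⁻¹ i)) m₀ τ]
      simp
    have := congrFun e (τ⁻¹ i)
    simpa using this.symm
  obtain ⟨k, hk⟩ : ∃ k : ZMod 2, ∀ φ m, Ev φ → Ev m → Z φ m = k * dot m φ := by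
    obtain ⟨k, hk⟩ : ∃ k : ZMod 2, ∀ w, Ev w → Z φ01 w = k * dot w φ01 := by
      rcases hm₀' with e | e
      · exact ⟨0, fun w hw => by rw [hd w hw, e]; simp [dot]⟩
      · exact ⟨1, fun w hw => by rw [hd w hw, e, one_mul]⟩
    have hns : ∀ φ, Ev φ → qe φ = 1 → ∀ m, Ev m → Z φ m = k * dot m φ := by
      intro φ hφ hq m hm
      obtain ⟨τ, hτ, he⟩ := to_φ01 φ hφ hq
      have e : (fun i => φ (τ⁻¹ i)) = φ01 := funext he
      rw [← inv τ φ m hτ hφ hm, e, hk _ (ev_perm hm _), ← e, dot_perm m φ]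
    refine ⟨k, fun φ m hφ hm => ?_⟩
    rcases ev_span φ hφ with rfl | h | ⟨a, b, ha, hb, hqa, hqb, rfl⟩
    · have := addl 0 0 m ev_zero ev_zero hm
      rw [add_zero] at this
      rw [show Z 0 m = 0 by simpa using this]
      simp [dot]
    · exact hns φ hφ h m hm
    · rw [addl a b m ha hb hm, hns a ha hqa m hm, hns b hb hqb m hm, dot_comm m (a + b), dot_add,
        dot_comm a m, dot_comm b m, mul_add]
  rcases two_cases k with rfl | rfl
  swap
  · rw [hZ φ e x hφ he hf hx h5, hk φ _ hφ (ev_co _), one_mul]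
  -- otherwise `g Q g⁻¹ ∩ C(z)` would act trivially on too much
  exfalso
  obtain ⟨x, hx, h5, hco⟩ := rep (pt 0) (ev_pt 0)
  have hxu := p.comm_of_π hx h5
  set x' := g⁻¹ * x * g with hx'def
  have hx'z : x' * z = z * x' := by
    calc x' * z = g⁻¹ * (x * u) * g := by rw [hx'def, ← p.conj]; group
      _ = z * x' := by rw [hxu, hx'def, ← p.conj]; group
  have htriv : ∀ v : V, v 5 = 0 → S.act x' v = v := by
    intro v hv
    obtain ⟨w, hw, rfl⟩ := S.π_surj v
    have hww : w * (g⁻¹ * z * g) = g⁻¹ * z * g * w := (S.comm_iff hw p.w_mem).2 (by rw [p.π_w, B_u0, hv])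
    have he : g * w * g⁻¹ ∈ S.sie g := mem_sie.2 ⟨by
      calc g * w * g⁻¹ * z = g * (w * (g⁻¹ * z * g)) * g⁻¹ := by group
        _ = z * (g * w * g⁻¹) := by rw [hww]; group, by simpa [mul_assoc] using hw⟩
    obtain ⟨φ, hφ, hf⟩ := p.sie_form he
    have h := hZ φ _ x hφ he hf hx h5
    rw [hk φ _ hφ (ev_co _), zero_mul, zp_zero, one_mul] at h
    rw [S.act_π hx'z hw]
    rcases two_cases (dot (co (π x)) φ) with hd | hd <;> rw [hd] at h
    · rw [zp_zero, mul_one] at h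
      have : x' * w * x'⁻¹ = w := by
        calc x' * w * x'⁻¹ = g⁻¹ * (x * (g * w * g⁻¹)) * x⁻¹ * g := by rw [hx'def]; group
          _ = g⁻¹ * (g * w * g⁻¹ * x) * x⁻¹ * g := by rw [← mul_inv_eq_iff_eq_mul.1 h]
          _ = w := by group
      rw [this]
    · rw [zp_one] at h
      have h' : x * (g * w * g⁻¹) * x⁻¹ = u⁻¹ * (g * w * g⁻¹) := by
        calc x * (g * w * g⁻¹) * x⁻¹ = (x * u) * (u⁻¹ * (g * w * g⁻¹)) * x⁻¹ := by group
          _ = (g * w * g⁻¹ * x * (g * w * g⁻¹)⁻¹) * (u⁻¹ * (g * w * g⁻¹)) * x⁻¹ := by rw [h]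
          _ = g * w * g⁻¹ * x * ((g * w * g⁻¹)⁻¹ * u⁻¹) * (g * w * g⁻¹) * x⁻¹ := by group
          _ = g * w * g⁻¹ * x * (u⁻¹ * (g * w * g⁻¹)⁻¹) * (g * w * g⁻¹) * x⁻¹ := by
              rw [(Commute.inv_inv (p.sie_comm he).2).eq]
          _ = g * w * g⁻¹ * (x * u⁻¹) * x⁻¹ := by group
          _ = g * w * g⁻¹ * (u⁻¹ * x) * x⁻¹ := by rw [(Commute.inv_right hxu).eq]
          _ = g * w * g⁻¹ * u⁻¹ := by group
          _ = u⁻¹ * (g * w * g⁻¹) := (Commute.inv_right (p.sie_comm he).2).eq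
      have : x' * w * x'⁻¹ = z * w := by
        calc x' * w * x'⁻¹ = g⁻¹ * (x * (g * w * g⁻¹) * x⁻¹) * g := by rw [hx'def]; group
          _ = z * w := by rw [h', ← p.conj]; simp [mul_assoc, S.extra.inv_z]
      rw [this, S.π_mul z S.extra.z_mem w hw, S.π_z, zero_add]
  have hfix : S.act x' u0 = u0 := htriv u0 (by decide)
  obtain ⟨σ, χ, hχ, hχf⟩ := exists_form (S.act_iso hx'z) hfix
  have hpts : ∀ i, σ i = i ∧ χ i = 0 := by
    intro i
    have h := htriv (P (pt i)) (co_P _ (ev_pt i)).2.2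
    rw [hχf, M_pt σ hχ] at h
    have key : ∀ i j, ∀ a : ZMod 2, P (pt j) + a • u0 = P (pt i) → j = i ∧ a = 0 := by decide +kernel
    obtain ⟨h1, h2⟩ := key _ _ _ h
    exact ⟨h1, by rwa [h1] at h2⟩
  have hσ : σ = 1 := Equiv.ext fun i => (hpts i).1
  have hχ0 : χ = 0 := funext fun i => (hpts i).2
  have hxQ := S.mem_of_act_id hx'z fun v => by rw [hχf, hσ, hχ0, evM_zero]
  have h0 : co (π x) = 0 := by
    rcases p.meet hx hxQ with e | e <;> rw [e]
    exacts [co_zero, co_u0]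
  rw [hco] at h0
  exact absurd h0 (by decide)

/-- Squares of Siegel elements. -/
theorem sie_sq {e : G} (he : e ∈ S.sie g) {φ : W5} (hφ : Ev φ) (hf : ∀ v, S.act e v = M 1 φ v) :
    e * e = zp u (qe φ) := by
  obtain ⟨hez, heu⟩ := p.sie_comm he
  have h2 : e * e = 1 ∨ e * e = u := by
    rcases S.extra.sq_cases (mem_sie.1 he).2 with h | h
    · left
      calc e * e = g * (g⁻¹ * e * g * (g⁻¹ * e * g)) * g⁻¹ := by group
        _ = 1 := by rw [h]; group
    · right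
      calc e * e = g * (g⁻¹ * e * g * (g⁻¹ * e * g)) * g⁻¹ := by group
        _ = u := by rw [h, p.conj]
  obtain ⟨y, hy, hπy⟩ := S.π_surj y0
  have hey : e * y * e⁻¹ ∈ Q := S.norm e hez y hy
  set r := e * y * e⁻¹ * y⁻¹ with hr
  have hrQ : r ∈ Q := mul_mem hey (inv_mem hy)
  have hπr : π r = M 1 φ y0 + y0 := by
    rw [hr, S.π_mul _ hey _ (inv_mem hy), S.π_inv hy, ← S.act_π hez hy, hπy, hf]
  obtain ⟨c1, c2, c3⟩ := y0_move φ hφ
  rw [← hπr] at c1 c2 c3
  have her : e * r * e⁻¹ = r := by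
    rw [p.pair_formula he hφ hf hrQ c2, c1, (qe_facts φ hφ).1, zp_zero, zp_zero, one_mul, mul_one]
  have hee : e * e * y * (e * e)⁻¹ = r * r * y := by
    calc e * e * y * (e * e)⁻¹ = (e * r * e⁻¹) * (e * y * e⁻¹) := by rw [hr]; group
      _ = r * r * y := by rw [her, hr]; group
  have hq : q (π r) = qe φ := c3
  rcases h2 with h | h <;> rw [h] at hee ⊢
  · have : r * r = 1 := by simpa using hee.symm
    rw [← hq, (S.q_iff r hrQ).2 this, zp_zero]
  · have huy : u * y * u⁻¹ = y * z := by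
      rw [S.conj_eq hy p.u_mem, p.π_u, hπy, show B u0 y0 = 1 by decide, zp_one]
    rw [huy, ← S.extra.z_comm hy, S.sq_eq hrQ, hq] at hee
    have := S.zp_inj ((zp_one z).trans (mul_right_cancel hee))
    rw [← this, zp_one]

end Pair

end

end Suz

end CfsgLib.Characterizations.SuzType
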